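import Cfsg.Agent.Omega.NOThreeL.NF.Defs

/-!
# THEOREM NF (#17343), piece (N): the interface `RP` for natural modules

`W` is the direct sum of `k` natural `SL₂(F)`-modules (`NatKM F S P W ⊥ k`).

* `Ac M g A` : `g` acts on `W` as `A ∈ SL₂(F)^k`;
* `ln M J` : the vectors of `W` with second coordinates 0 and support in `J`;
* `Rt M i A` : `A ≤ S` acts on `W` as the full root group of the `i`-th factor; `Rt.of` : a minimal offender is
  such a group;
* `rp_of_natKM` : `RP S P`.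
-/

set_option autoImplicit false

namespace Cfsg.Agent.Omega.NOThreeL.NF

open Subgroup Cfsg Cfsg.Agent.ZN Cfsg.Agent.ZN.ChoiceBase Cfsg.Agent.Omega.MinPar
open Cfsg.Agent.Omega.FFThm (ElemM OffM NoOverM ConclM NatKM ActsSL relIndex_le_iff)
open Cfsg.Agent.Omega.NatPair (ap ap_mul ap_one ap_inv_ap ap_zero' ap_one' ext2 exists_ap)
open Cfsg.Agent.Omega.NO3b.EZero (cent_symm)
open Cfsg.Agent.Lib.SL2Mat
open scoped commutatorElement

universe u

namespace NatR

variable {G : Type u} [Group G] {F : Type} [Field F] {S P W : Subgroup G} {k : ℕ}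

/-- `g` acts on `W` as `A ∈ SL₂(F)^k`. -/
def Ac (M : NatKM F S P W ⊥ k) (g : G) (A : Fin k → Matrix.SpecialLinearGroup (Fin 2) F) : Prop :=
  ∀ v ∈ W, ∀ i, M.e (g * v * g⁻¹) i = ap (A i) (M.e v i)

section basic

variable {M : NatKM F S P W ⊥ k}

theorem e_one : M.e 1 = 0 := by
  have h := M.mul 1 (one_mem _) 1 (one_mem _)
  rw [one_mul] at h
  exact left_eq_add.1 h

theorem e_inv {v : G} (hv : v ∈ W) : M.e v⁻¹ = - M.e v := by
  have h := M.mul v hv v⁻¹ (inv_mem hv)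
  rw [mul_inv_cancel, e_one] at h
  exact (neg_eq_of_add_eq_zero_right h.symm).symm

theorem e_inj {v w : G} (hv : v ∈ W) (hw : w ∈ W) (h : M.e v = M.e w) : v = w := by
  have h1 := M.mul v hv w⁻¹ (inv_mem hw)
  rw [e_inv hw, h, add_neg_cancel] at h1
  have h2 := (M.ker _ (mul_mem hv (inv_mem hw))).1 h1
  exact mul_inv_eq_one.1 (mem_bot.1 h2)

theorem comm (M : NatKM F S P W ⊥ k) {v w : G} (hv : v ∈ W) (hw : w ∈ W) : v * w = w * v :=
  e_inj (M := M) (mul_mem hv hw) (mul_mem hw hv) (by rw [M.mul v hv w hw, M.mul w hw v hv, add_comm])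

theorem Ac.actsSL {g : G} {A : Fin k → Matrix.SpecialLinearGroup (Fin 2) F} (h : Ac M g A) :
    ActsSL M.e W ⊥ g A :=
  ⟨h, fun d hd => by rw [mem_bot.1 hd, mul_one, one_mul]⟩

variable (hPW : P ≤ normalizer (W : Set G))
include hPW

theorem cmem {g v : G} (hg : g ∈ P) (hv : v ∈ W) : g * v * g⁻¹ ∈ W := (mem_normalizer_iff.1 (hPW hg) v).1 hv

theorem Ac.mul {g h : G} {A B : Fin k → Matrix.SpecialLinearGroup (Fin 2) F} (hh : h ∈ P) (h1 : Ac M g A)
    (h2 : Ac M h B) : Ac M (g * h) (A * B) := by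
  intro v hv i
  have e1 : g * h * v * (g * h)⁻¹ = g * (h * v * h⁻¹) * g⁻¹ := by group
  rw [e1, h1 _ (cmem hPW hh hv), h2 v hv, Pi.mul_apply, ap_mul]

theorem Ac.inv {g : G} {A : Fin k → Matrix.SpecialLinearGroup (Fin 2) F} (hg : g ∈ P) (h1 : Ac M g A) :
    Ac M g⁻¹ A⁻¹ := by
  intro v hv i
  have h2 := h1 _ (cmem hPW (inv_mem hg) hv) i
  have e1 : g * (g⁻¹ * v * g⁻¹⁻¹) * g⁻¹ = v := by group
  rw [e1] at h2
  rw [h2, Pi.inv_apply, ap_inv_ap]

omit hPW in
theorem ac_one {g : G} (hg : g ∈ centralizer (W : Set G)) : Ac M g 1 := by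
  intro v hv i
  have e1 : g * v * g⁻¹ = v := by
    have := mem_centralizer_iff.1 hg v hv
    rw [← this]; group
  rw [e1, Pi.one_apply, ap_one]

theorem cent_of_ac {g : G} (hg : g ∈ P) (h : Ac M g 1) : g ∈ centralizer (W : Set G) := by
  refine mem_centralizer_iff.2 fun v hv => ?_
  have h1 : g * v * g⁻¹ = v := by
    refine e_inj (M := M) (cmem hPW hg hv) hv ?_
    funext i
    rw [h v hv i, Pi.one_apply, ap_one]
  rw [← mul_inv_eq_iff_eq_mul.1 h1]

end basic

/-! ### The lines -/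

/-- The vectors of `W` with second coordinates 0 and support in `J`. -/
def ln (M : NatKM F S P W ⊥ k) (J : Set (Fin k)) : Subgroup G where
  carrier := {v | v ∈ W ∧ (∀ j, M.e v j 1 = 0) ∧ ∀ j, j ∉ J → M.e v j = 0}
  mul_mem' := by
    rintro a b ⟨ha, ha1, ha2⟩ ⟨hb, hb1, hb2⟩
    refine ⟨mul_mem ha hb, fun j => ?_, fun j hj => ?_⟩
    · rw [M.mul a ha b hb, Pi.add_apply, Pi.add_apply, ha1, hb1, add_zero]
    · rw [M.mul a ha b hb, Pi.add_apply, ha2 j hj, hb2 j hj, add_zero]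
  one_mem' := by
    refine ⟨one_mem _, fun j => ?_, fun j _ => ?_⟩
    · rw [e_one]; rfl
    · rw [e_one]; rfl
  inv_mem' := by
    rintro a ⟨ha, ha1, ha2⟩
    refine ⟨inv_mem ha, fun j => ?_, fun j hj => ?_⟩
    · rw [e_inv ha, Pi.neg_apply, Pi.neg_apply, ha1, neg_zero]
    · rw [e_inv ha, Pi.neg_apply, ha2 j hj, neg_zero]

section lines

variable {M : NatKM F S P W ⊥ k}

theorem mem_ln {J : Set (Fin k)} {v : G} :
    v ∈ ln M J ↔ v ∈ W ∧ (∀ j, M.e v j 1 = 0) ∧ ∀ j, j ∉ J → M.e v j = 0 := Iff.rfl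

theorem ln_mono {I J : Set (Fin k)} (h : I ⊆ J) : ln M I ≤ ln M J :=
  fun _ hv => ⟨hv.1, hv.2.1, fun j hj => hv.2.2 j fun hi => hj (h hi)⟩

theorem ln_le (J : Set (Fin k)) : ln M J ≤ W := fun _ hv => hv.1

theorem mem_sSup_ln {J : Set (Fin k)} (s : Finset (Fin k)) : ∀ v ∈ ln M J, (∀ j, j ∉ s → M.e v j = 0) →
    v ∈ sSup ((fun i => ln M {i}) '' J) := by
  classical
  induction s using Finset.induction_on with
  | empty =>
    intro v hv h0
    have : v = 1 := e_inj (M := M) hv.1 (one_mem _) (by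
      rw [e_one]; funext j; exact h0 j (Finset.notMem_empty j))
    rw [this]; exact one_mem _
  | insert a s has ih =>
    intro v hv h0
    by_cases haJ : a ∈ J
    · obtain ⟨w, hw, hew⟩ := M.surj (Pi.single a (M.e v a))
      have hw1 : w ∈ ln M {a} := by
        refine ⟨hw, fun j => ?_, fun j hj => ?_⟩
        · rw [hew]
          by_cases hj : j = a
          · subst hj; rw [Pi.single_eq_same]; exact hv.2.1 j
          · rw [Pi.single_eq_of_ne hj]; rfl
        · rw [hew]; exact Pi.single_eq_of_ne hj _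
      have hw2 : w ∈ ln M J := ln_mono (Set.singleton_subset_iff.2 haJ) hw1
      have h1 := ih (v * w⁻¹) (mul_mem hv (inv_mem hw2)) (fun j hj => by
        rw [M.mul v hv.1 _ (inv_mem hw), e_inv hw, hew, Pi.add_apply, Pi.neg_apply]
        by_cases hja : j = a
        · subst hja; rw [Pi.single_eq_same, add_neg_cancel]
        · rw [Pi.single_eq_of_ne hja, neg_zero, add_zero]
          exact h0 j fun h => (Finset.mem_insert.1 h).elim hja hj)
      have h2 : w ∈ sSup ((fun i => ln M {i}) '' J) :=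
        (le_sSup (Set.mem_image_of_mem (fun i => ln M {i}) haJ) : ln M {a} ≤ _) hw1
      have h3 := mul_mem h1 h2
      rwa [inv_mul_cancel_right] at h3
    · refine ih v hv fun j hj => ?_
      by_cases hja : j = a
      · subst hja; exact hv.2.2 j haJ
      · exact h0 j fun h => (Finset.mem_insert.1 h).elim hja hj

theorem sSup_ln (J : Set (Fin k)) : sSup ((fun i => ln M {i}) '' J) = ln M J := by
  refine le_antisymm (sSup_le ?_) fun v hv => mem_sSup_ln Finset.univ v hv fun j hj => absurd (Finset.mem_univ j) hj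
  rintro _ ⟨i, hi, rfl⟩
  exact ln_mono (Set.singleton_subset_iff.2 hi)

theorem exists_ln (i : Fin k) (x : F) : ∃ v ∈ ln M {i}, M.e v i 0 = x := by
  classical
  obtain ⟨v, hv, hev⟩ := M.surj (Pi.single i ![x, 0])
  refine ⟨v, ⟨hv, fun j => ?_, fun j hj => ?_⟩, ?_⟩
  · rw [hev]
    by_cases hj : j = i
    · subst hj; rw [Pi.single_eq_same]; rfl
    · rw [Pi.single_eq_of_ne hj]; rfl
  · rw [hev]; exact Pi.single_eq_of_ne hj _
  · rw [hev, Pi.single_eq_same]; rfl

theorem ln_ext {i : Fin k} {v w : G} (hv : v ∈ ln M {i}) (hw : w ∈ ln M {i}) (h : M.e v i 0 = M.e w i 0) :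
    v = w := by
  refine e_inj (M := M) hv.1 hw.1 ?_
  funext j
  by_cases hj : j = i
  · subst hj; exact ext2 h (by rw [hv.2.1, hw.2.1])
  · rw [hv.2.2 j hj, hw.2.2 j hj]

theorem card_ln (i : Fin k) : Nat.card (ln M {i}) = Nat.card F :=
  Nat.card_congr (Equiv.ofBijective (fun v : ln M {i} => M.e (v : G) i 0)
    ⟨fun v w h => Subtype.ext (ln_ext v.2 w.2 h), fun x => by
      obtain ⟨v, hv, h⟩ := exists_ln (M := M) i x
      exact ⟨⟨v, hv⟩, h⟩⟩)

theorem ln_injective : Function.Injective fun i : Fin k => ln M {i} := by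
  intro i j h
  by_contra hij
  obtain ⟨v, hv, hx⟩ := exists_ln (M := M) i 1
  have hv' : v ∈ ln M {j} := by
    have h' : ln M {i} = ln M {j} := h
    rwa [← h']
  have h0 := hv'.2.2 i hij
  rw [h0] at hx
  exact zero_ne_one hx

theorem card_W (M : NatKM F S P W ⊥ k) : Nat.card W = Nat.card F ^ (2 * k) := by
  have h1 : Nat.card W = Nat.card (Fin k → Fin 2 → F) :=
    Nat.card_congr (Equiv.ofBijective (fun v : W => M.e (v : G))
      ⟨fun v w h => Subtype.ext (e_inj (M := M) v.2 w.2 h), fun x => by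
        obtain ⟨v, hv, h⟩ := M.surj x
        exact ⟨⟨v, hv⟩, h⟩⟩)
  rw [h1, Nat.card_fun, Nat.card_fun, Nat.card_fin, Nat.card_fin, ← pow_mul]

/-- A vector supported exactly at `i`. -/
theorem exists_pt (i : Fin k) (x : Fin 2 → F) : ∃ v ∈ W, M.e v i = x ∧ ∀ j, j ≠ i → M.e v j = 0 := by
  classical
  obtain ⟨v, hv, hev⟩ := M.surj (Pi.single i x)
  exact ⟨v, hv, by rw [hev, Pi.single_eq_same], fun j hj => by rw [hev]; exact Pi.single_eq_of_ne hj _⟩

end lines

/-! ### The elements of `S` -/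

section perm

variable {M : NatKM F S P W ⊥ k}

/-- An element of `S` permutes the summands and the lines in them. -/
theorem exists_perm (hSP : S ≤ P) {t : G} (ht : t ∈ S) : ∃ σ : Equiv.Perm (Fin k),
    (∀ v ∈ W, ∀ i, M.e (t * v * t⁻¹) (σ i) = 0 ↔ M.e v i = 0) ∧
      ∀ v ∈ W, ∀ i, M.e (t * v * t⁻¹) (σ i) 1 = 0 ↔ M.e v i 1 = 0 := by
  obtain ⟨σ, hσ⟩ := M.perm t (hSP ht)
  obtain ⟨τ, hτ⟩ := M.line t ht
  refine ⟨σ, hσ, ?_⟩
  have h : σ = τ := by
    ext1 i
    obtain ⟨v, hv, hvi, hvj⟩ := exists_pt (M := M) i ![0, 1]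
    by_contra hne
    have h1 : M.e (t * v * t⁻¹) (τ i) 1 ≠ 0 := by
      intro h0
      have := (hτ v hv i).1 h0
      rw [hvi] at this
      exact one_ne_zero this
    apply h1
    have h2 : M.e (t * v * t⁻¹) (σ (σ.symm (τ i))) = 0 := by
      exact (hσ v hv _).2 (hvj _ fun h3 => hne ((Equiv.symm_apply_eq σ).1 h3).symm)
    rw [Equiv.apply_symm_apply] at h2
    rw [h2]; rfl
  rw [h]; exact hτ

theorem cj_ln_le (hPW : P ≤ normalizer (W : Set G)) (hSP : S ≤ P) {t : G} (ht : t ∈ S)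
    {σ : Equiv.Perm (Fin k)} (h1 : ∀ v ∈ W, ∀ i, M.e (t * v * t⁻¹) (σ i) = 0 ↔ M.e v i = 0)
    (h2 : ∀ v ∈ W, ∀ i, M.e (t * v * t⁻¹) (σ i) 1 = 0 ↔ M.e v i 1 = 0) (i : Fin k) :
    cj t (ln M {i}) = ln M {σ i} := by
  have hle : cj t (ln M {i}) ≤ ln M {σ i} := by
    rintro _ ⟨v, hv, rfl⟩
    change t * v * t⁻¹ ∈ _
    refine ⟨cmem hPW (hSP ht) hv.1, fun j => ?_, fun j hj => ?_⟩
    · obtain ⟨j, rfl⟩ := σ.surjective j
      exact (h2 v hv.1 j).2 (hv.2.1 j)
    · obtain ⟨j, rfl⟩ := σ.surjective j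
      exact (h1 v hv.1 j).2 (hv.2.2 j fun h => hj (congrArg σ h))
  refine le_antisymm hle fun w hw => ?_
  rw [mem_cj]
  have hw' : t⁻¹ * w * t ∈ W := by
    have := cmem hPW (inv_mem (hSP ht)) hw.1
    rwa [inv_inv] at this
  have e1 : t * (t⁻¹ * w * t) * t⁻¹ = w := by group
  refine ⟨hw', fun j => ?_, fun j hj => ?_⟩
  · refine (h2 _ hw' j).1 ?_
    rw [e1]; exact hw.2.1 _
  · refine (h1 _ hw' j).1 ?_
    rw [e1]
    exact hw.2.2 _ fun h => hj (σ.injective h)

/-- `S` is transitive on the lines. -/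
theorem exists_cj_ln (hPW : P ≤ normalizer (W : Set G)) (hSP : S ≤ P) (i j : Fin k) :
    ∃ t ∈ S, cj t (ln M {i}) = ln M {j} := by
  obtain ⟨t, ht, h⟩ := M.trans i j
  obtain ⟨σ, h1, h2⟩ := exists_perm (M := M) hSP ht
  refine ⟨t, ht, ?_⟩
  rw [cj_ln_le hPW hSP ht h1 h2 i]
  congr 2
  by_contra hne
  obtain ⟨v, hv, hvi, hvj⟩ := exists_pt (M := M) i ![0, 1]
  have h3 : M.e v i ≠ 0 := by
    rw [hvi]
    intro h0
    exact one_ne_zero (congrFun h0 1)
  refine h3 ((h v hv).1 ?_)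
  obtain ⟨j', rfl⟩ := σ.surjective j
  exact (h1 v hv j').2 (hvj j' fun h4 => hne (by rw [h4]))

theorem exists_cj_ln' (hPW : P ≤ normalizer (W : Set G)) (hSP : S ≤ P) {t : G} (ht : t ∈ S) (i : Fin k) :
    ∃ j, cj t (ln M {i}) = ln M {j} := by
  obtain ⟨σ, h1, h2⟩ := exists_perm (M := M) hSP ht
  exact ⟨σ i, cj_ln_le hPW hSP ht h1 h2 i⟩

end perm

/-! ### Root groups -/

theorem ap_up (c : F) (x : Fin 2 → F) : ap (up c) x = ![x 0 + c * x 1, x 1] := by
  apply ext2
  · rw [ap_zero', up_00, up_01]; simp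
  · rw [ap_one', up_10, up_11]; simp

theorem ap_lo (c : F) (x : Fin 2 → F) : ap (lo c) x = ![x 0, c * x 0 + x 1] := by
  apply ext2
  · rw [ap_zero', lo_00, lo_01]; simp
  · rw [ap_one', lo_10, lo_11]; simp

/-- `A` acts on `W` as the full root group of the `i`-th factor. -/
structure Rt (M : NatKM F S P W ⊥ k) (i : Fin k) (A : Subgroup G) : Prop where
  le : A ≤ S
  acts : ∀ a ∈ A, ∃ c : F, Ac M a (Pi.mulSingle i (up c))
  ex : ∀ c : F, ∃ a ∈ A, Ac M a (Pi.mulSingle i (up c))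

section root

variable {M : NatKM F S P W ⊥ k} {i : Fin k} {A : Subgroup G}

theorem ac_at {a v : G} {c : F} (h : Ac M a (Pi.mulSingle i (up c))) (hv : v ∈ W) :
    M.e (a * v * a⁻¹) i = ![M.e v i 0 + c * M.e v i 1, M.e v i 1] := by
  rw [h v hv i, Pi.mulSingle_eq_same, ap_up]

theorem ac_ne {a v : G} {c : F} (h : Ac M a (Pi.mulSingle i (up c))) (hv : v ∈ W) {j : Fin k} (hj : j ≠ i) :
    M.e (a * v * a⁻¹) j = M.e v j := by
  rw [h v hv j, Pi.mulSingle_eq_of_ne hj, ap_one]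

theorem mulSingle_mul (c d : F) : (Pi.mulSingle i (up c) : Fin k → Matrix.SpecialLinearGroup (Fin 2) F) *
    Pi.mulSingle i (up d) = Pi.mulSingle i (up (c + d)) := by
  rw [← Pi.mulSingle_mul, up_mul]

theorem mulSingle_inv (c : F) : (Pi.mulSingle i (up c) : Fin k → Matrix.SpecialLinearGroup (Fin 2) F)⁻¹ =
    Pi.mulSingle i (up (-c)) := by
  rw [← Pi.mulSingle_inv, up_inv]

theorem mulSingle_zero : (Pi.mulSingle i (up 0) : Fin k → Matrix.SpecialLinearGroup (Fin 2) F) = 1 := by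
  rw [up_zero, Pi.mulSingle_one]

variable (hPW : P ≤ normalizer (W : Set G)) (hSP : S ≤ P)
include hPW hSP

/-- a root group centralises the vectors with second coordinate 0 at `i` -/
theorem Rt.fix (h : Rt M i A) {v : G} (hv : v ∈ W) (h0 : M.e v i 1 = 0) : v ∈ centralizer (A : Set G) := by
  refine mem_centralizer_iff.2 fun a ha => ?_
  obtain ⟨c, hc⟩ := h.acts a ha
  have h1 : a * v * a⁻¹ = v := by
    refine e_inj (M := M) (cmem hPW (hSP (h.le ha)) hv) hv ?_
    funext j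
    by_cases hj : j = i
    · subst hj
      rw [ac_at hc hv]
      exact ext2 (by rw [h0]; simp) rfl
    · exact ac_ne hc hv hj
  exact mul_inv_eq_iff_eq_mul.1 h1

omit hPW hSP in
theorem Rt.zero_of_cent (h : Rt M i A) {v : G} (hv : v ∈ W) (hc : v ∈ centralizer (A : Set G)) :
    M.e v i 1 = 0 := by
  obtain ⟨a, ha, hac⟩ := h.ex 1
  have h1 : a * v * a⁻¹ = v := by
    rw [mem_centralizer_iff.1 hc a ha]; group
  have h2 := ac_at hac hv
  rw [h1] at h2
  have h3 := congrFun h2 0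
  simp only [Matrix.cons_val_zero, one_mul] at h3
  exact left_eq_add.1 h3

theorem Rt.comm_eq (h : Rt M i A) : ⁅W, A⁆ = ln M {i} := by
  refine le_antisymm (commutator_le.2 fun v hv a ha => ?_) fun w hw => ?_
  · obtain ⟨c, hc⟩ := h.acts a ha
    have hm := cmem hPW (hSP (h.le ha)) (inv_mem hv)
    have e1 : ⁅v, a⁆ = v * (a * v⁻¹ * a⁻¹) := by rw [commutatorElement_def]; group
    rw [e1]
    refine ⟨mul_mem hv hm, fun j => ?_, fun j hj => ?_⟩
    · rw [M.mul v hv _ hm, Pi.add_apply, Pi.add_apply]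
      by_cases hj : j = i
      · subst hj
        rw [ac_at hc (inv_mem hv), e_inv hv]
        simp
      · rw [ac_ne hc (inv_mem hv) hj, e_inv hv, Pi.neg_apply, Pi.neg_apply, add_neg_cancel]
    · rw [M.mul v hv _ hm, Pi.add_apply, ac_ne hc (inv_mem hv) hj, e_inv hv, Pi.neg_apply, add_neg_cancel]
  · obtain ⟨v, hv, hvi, hvj⟩ := exists_pt (M := M) i ![0, 1]
    obtain ⟨a, ha, hac⟩ := h.ex (M.e w i 0)
    have hm := cmem hPW (hSP (h.le ha)) (inv_mem hv)
    have e1 : ⁅v, a⁆ = v * (a * v⁻¹ * a⁻¹) := by rw [commutatorElement_def]; group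
    have h1 : w⁻¹ = ⁅v, a⁆ := by
      rw [e1]
      refine e_inj (M := M) (inv_mem hw.1) (mul_mem hv hm) ?_
      funext j
      rw [M.mul v hv _ hm, Pi.add_apply, e_inv hw.1]
      by_cases hj : j = i
      · subst hj
        rw [ac_at hac (inv_mem hv), e_inv hv, Pi.neg_apply, Pi.neg_apply, Pi.neg_apply, hvi]
        exact ext2 (by simp) (by simp [hw.2.1])
      · rw [ac_ne hac (inv_mem hv) hj, e_inv hv, Pi.neg_apply, Pi.neg_apply, add_neg_cancel, hw.2.2 j hj, neg_zero]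
    have h2 : w⁻¹ ∈ ⁅W, A⁆ := by rw [h1]; exact commutator_mem_commutator hv ha
    exact inv_mem_iff.1 h2

/-- `A / C_A(W)` has order `|F|`. -/
theorem Rt.relIndex (h : Rt M i A) : (centralizer (W : Set G)).relIndex A = Nat.card F := by
  obtain ⟨v, hv, hvi, hvj⟩ := exists_pt (M := M) i ![0, 1]
  have hval : ∀ a ∈ A, ∀ c, Ac M a (Pi.mulSingle i (up c)) → M.e (a * v * a⁻¹) i 0 = c := by
    intro a _ c hc
    rw [ac_at hc hv, hvi]; simp
  let φ : A →* Multiplicative F :=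
    { toFun := fun a => Multiplicative.ofAdd (M.e ((a : G) * v * (a : G)⁻¹) i 0)
      map_one' := by
        change Multiplicative.ofAdd (M.e ((1 : G) * v * (1 : G)⁻¹) i 0) = 1
        rw [one_mul, inv_one, mul_one, hvi]; rfl
      map_mul' := by
        rintro ⟨a, ha⟩ ⟨b, hb⟩
        obtain ⟨c, hc⟩ := h.acts a ha
        obtain ⟨d, hd⟩ := h.acts b hb
        have hab := Ac.mul hPW (hSP (h.le hb)) hc hd
        rw [mulSingle_mul] at hab
        change Multiplicative.ofAdd (M.e ((a * b) * v * (a * b)⁻¹) i 0) =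
          Multiplicative.ofAdd (M.e (a * v * a⁻¹) i 0) * Multiplicative.ofAdd (M.e (b * v * b⁻¹) i 0)
        rw [hval _ (mul_mem ha hb) _ hab, hval a ha c hc, hval b hb d hd, ofAdd_add] }
  have hker : (centralizer (W : Set G)).subgroupOf A = φ.ker := by
    ext ⟨a, ha⟩
    rw [mem_subgroupOf, MonoidHom.mem_ker]
    obtain ⟨c, hc⟩ := h.acts a ha
    have hφ : φ ⟨a, ha⟩ = Multiplicative.ofAdd c := by
      change Multiplicative.ofAdd (M.e (a * v * a⁻¹) i 0) = _
      rw [hval a ha c hc]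
    rw [hφ]
    constructor
    · intro hcen
      have h1 : a * v * a⁻¹ = v := by
        have := mem_centralizer_iff.1 hcen v hv
        change v * a = a * v at this
        rw [← this]; group
      have h2 := hval a ha c hc
      rw [h1, hvi] at h2
      rw [← h2]; rfl
    · intro h0
      have h1 : c = 0 := Multiplicative.ofAdd.injective h0
      rw [h1, mulSingle_zero] at hc
      exact cent_of_ac hPW (hSP (h.le ha)) hc
  unfold Subgroup.relIndex
  rw [hker, index_ker]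
  have hr : φ.range = ⊤ := by
    rw [MonoidHom.range_eq_top]
    intro c
    obtain ⟨a, ha, hac⟩ := h.ex (Multiplicative.toAdd c)
    refine ⟨⟨a, ha⟩, ?_⟩
    change Multiplicative.ofAdd (M.e (a * v * a⁻¹) i 0) = _
    rw [hval a ha _ hac]; rfl
  rw [hr, Nat.card_congr (topEquiv (G := Multiplicative F)).toEquiv]
  rfl

/-- `W / C_W(A)` has order `|F|`. -/
theorem Rt.relIndex' (h : Rt M i A) : (centralizer (A : Set G)).relIndex W = Nat.card F := by
  let ψ : W →* Multiplicative F :=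
    { toFun := fun v => Multiplicative.ofAdd (M.e (v : G) i 1)
      map_one' := by
        change Multiplicative.ofAdd (M.e (1 : G) i 1) = 1
        rw [e_one]; rfl
      map_mul' := by
        rintro ⟨v, hv⟩ ⟨w, hw⟩
        change Multiplicative.ofAdd (M.e (v * w) i 1) = _
        rw [M.mul v hv w hw]; rfl }
  have hker : (centralizer (A : Set G)).subgroupOf W = ψ.ker := by
    ext ⟨v, hv⟩
    rw [mem_subgroupOf, MonoidHom.mem_ker]
    constructor
    · intro hc
      change Multiplicative.ofAdd (M.e v i 1) = 1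
      rw [h.zero_of_cent hv hc]; rfl
    · intro h0
      exact h.fix hPW hSP hv (Multiplicative.ofAdd.injective h0)
  unfold Subgroup.relIndex
  rw [hker, index_ker]
  have hr : ψ.range = ⊤ := by
    rw [MonoidHom.range_eq_top]
    intro c
    obtain ⟨v, hv, hvi, -⟩ := exists_pt (M := M) i ![0, Multiplicative.toAdd c]
    refine ⟨⟨v, hv⟩, ?_⟩
    change Multiplicative.ofAdd (M.e v i 1) = _
    rw [hvi]; rfl
  rw [hr, Nat.card_congr (topEquiv (G := Multiplicative F)).toEquiv]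
  rfl

/-- A root group is an offender. -/
theorem Rt.offM [Finite G] [CharP F 2] (h : Rt M i A) : OffM W A where
  sq a ha := by
    obtain ⟨c, hc⟩ := h.acts a ha
    have h1 := Ac.mul hPW (hSP (h.le ha)) hc hc
    rw [mulSingle_mul, CharTwo.add_self_eq_zero, mulSingle_zero] at h1
    rw [pow_two]
    exact cent_of_ac hPW (mul_mem (hSP (h.le ha)) (hSP (h.le ha))) h1
  comm a ha b hb := by
    obtain ⟨c, hc⟩ := h.acts a ha
    obtain ⟨d, hd⟩ := h.acts b hb
    have pa := hSP (h.le ha)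
    have pb := hSP (h.le hb)
    have h1 := Ac.mul hPW (inv_mem pb) (Ac.mul hPW (inv_mem pa) (Ac.mul hPW pb hc hd) (hc.inv hPW pa))
      (hd.inv hPW pb)
    rw [mulSingle_inv, mulSingle_inv, mulSingle_mul, mulSingle_mul, mulSingle_mul,
      show c + d + -c + -d = 0 by ring, mulSingle_zero] at h1
    exact cent_of_ac hPW (mul_mem (mul_mem (mul_mem pa pb) (inv_mem pa)) (inv_mem pb)) h1
  ne h0 := by
    obtain ⟨v, hv, hvi, -⟩ := exists_pt (M := M) i ![0, 1]
    have h1 := h.zero_of_cent hv (cent_symm h0 hv)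
    rw [hvi] at h1
    exact one_ne_zero (α := F) h1
  le := relIndex_le_iff.2 (by rw [h.relIndex hPW hSP, h.relIndex' hPW hSP])

/-- A minimal offender is a root group. -/
theorem Rt.of [Finite G] [CharP F 2] (h : MinOffM W S A) : ∃ i, Rt M i A := by
  classical
  obtain ⟨I, h1, h2⟩ := M.offM A h.le h.off
  have hI : I.Nonempty := by
    rw [Set.nonempty_iff_ne_empty]
    rintro rfl
    refine h.off.ne fun a ha => ?_
    obtain ⟨b, hb, hac⟩ := h1 a ha
    refine cent_of_ac (M := M) hPW (hSP (h.le ha)) fun v hv j => ?_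
    have h3 : up (b j) = 1 := by rw [hb j (Set.notMem_empty j), up_zero]
    exact (hac.1 v hv j).trans (congrArg (fun t => ap t (M.e v j)) h3)
  obtain ⟨i, hi⟩ := hI
  have key : ∀ c : F, (fun j => up ((Pi.single i c : Fin k → F) j) :
      Fin k → Matrix.SpecialLinearGroup (Fin 2) F) = Pi.mulSingle i (up c) := by
    intro c
    funext j
    by_cases hj : j = i
    · subst hj; rw [Pi.single_eq_same, Pi.mulSingle_eq_same]
    · rw [Pi.single_eq_of_ne hj, Pi.mulSingle_eq_of_ne hj, up_zero]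
  let B : Subgroup G :=
    { carrier := {a | a ∈ A ∧ ∃ c : F, Ac M a (Pi.mulSingle i (up c))}
      mul_mem' := by
        rintro a b ⟨ha, c, hc⟩ ⟨hb, d, hd⟩
        refine ⟨mul_mem ha hb, c + d, ?_⟩
        rw [← mulSingle_mul]
        exact Ac.mul hPW (hSP (h.le hb)) hc hd
      one_mem' := ⟨one_mem _, 0, by rw [mulSingle_zero]; exact ac_one (one_mem _)⟩
      inv_mem' := by
        rintro a ⟨ha, c, hc⟩
        refine ⟨inv_mem ha, -c, ?_⟩
        rw [← mulSingle_inv]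
        exact hc.inv hPW (hSP (h.le ha)) }
  have hBA : B ≤ A := fun a ha => ha.1
  have hB : Rt M i B := by
    refine ⟨hBA.trans h.le, fun a ha => ha.2, fun c => ?_⟩
    have hs : ∀ j, j ∉ I → (Pi.single i c : Fin k → F) j = 0 := by
      intro j hj
      have h3 : j ≠ i := fun h3 => hj (by rw [h3]; exact hi)
      rw [Pi.single_apply, if_neg h3]
    obtain ⟨a, ha, hac⟩ := h2 (Pi.single i c) hs
    have h3 : Ac M a (Pi.mulSingle i (up c)) := by rw [← key c]; exact hac.1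
    exact ⟨a, ⟨ha, c, h3⟩, h3⟩
  have hm := h.min B hBA (hB.offM hPW hSP)
  have hAB : A ⊓ centralizer (W : Set G) = B ⊓ centralizer (W : Set G) := by
    refine le_antisymm (fun a ha => ⟨⟨ha.1, 0, ?_⟩, ha.2⟩) (inf_le_inf_right _ hBA)
    rw [mulSingle_zero]; exact ac_one ha.2
  have e1 := Star.rel_mul_card A (centralizer (W : Set G))
  have e2 := Star.rel_mul_card B (centralizer (W : Set G))
  rw [← hAB] at e2
  have h3 : Nat.card A ≤ Nat.card B := by
    rw [← e1, ← e2]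
    exact Nat.mul_le_mul_right _ hm
  have h4 : B = A := Subgroup.eq_of_le_of_card_ge hBA h3
  exact ⟨i, h4 ▸ hB⟩

end root

/-! ### Conjugation of minimal offenders -/

section conj

omit [Field F]

variable {A : Subgroup G}

theorem offM_cj (h : OffM W A) {g : G} (hg : g ∈ normalizer (W : Set G)) : OffM W (cj g A) := by
  have hW : cj g W = W := cj_eq_of_mem_normalizer hg
  refine ⟨⟨?_, ?_⟩, fun h0 => h.ne ?_, ?_⟩
  · rintro _ ⟨a, ha, rfl⟩
    have h1 := Star.cen_cj hg (h.sq a ha)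
    change (g * a * g⁻¹) ^ 2 ∈ _
    have e : (g * a * g⁻¹) ^ 2 = g * a ^ 2 * g⁻¹ := by rw [pow_two, pow_two]; group
    rwa [e]
  · rintro _ ⟨a, ha, rfl⟩ _ ⟨b, hb, rfl⟩
    have h1 := Star.cen_cj hg (h.comm a ha b hb)
    change g * a * g⁻¹ * (g * b * g⁻¹) * (g * a * g⁻¹)⁻¹ * (g * b * g⁻¹)⁻¹ ∈ _
    have e : g * a * g⁻¹ * (g * b * g⁻¹) * (g * a * g⁻¹)⁻¹ * (g * b * g⁻¹)⁻¹ =
      g * (a * b * a⁻¹ * b⁻¹) * g⁻¹ := by group
    rwa [e]
  · rw [← hW, ← cj_centralizer, cj_le_iff, cj_inv_cj] at h0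
    exact h0
  · have e1 : cj g A ⊓ centralizer (W : Set G) = cj g (A ⊓ centralizer (W : Set G)) := by
      conv_lhs => rw [← hW, ← cj_centralizer, ← cj_inf]
    have e2 : W ⊓ centralizer (cj g A : Set G) = cj g (W ⊓ centralizer (A : Set G)) := by
      conv_lhs => rw [← hW, ← cj_centralizer, ← cj_inf]
    rw [e1, e2, card_cj, card_cj, card_cj]
    exact h.le

theorem minOffM_cj (hSW : S ≤ normalizer (W : Set G)) (h : MinOffM W S A) {t : G} (ht : t ∈ S) :
    MinOffM W S (cj t A) := by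
  have hS : ∀ x ∈ S, cj x S = S := fun x hx => cj_eq_of_mem_normalizer (le_normalizer hx)
  refine ⟨?_, offM_cj h.off (hSW ht), fun B hB hB1 => ?_⟩
  · rw [cj_le_iff, hS _ (inv_mem ht)]; exact h.le
  · rw [Star.rel_cj (hSW ht)]
    have h1 := h.min (cj t⁻¹ B) (by rw [cj_le_iff, inv_inv]; exact hB) (offM_cj hB1 (hSW (inv_mem ht)))
    rwa [Star.rel_cj (hSW (inv_mem ht))] at h1

theorem comm_cj (t : G) (ht : t ∈ normalizer (W : Set G)) : ⁅W, cj t A⁆ = cj t ⁅W, A⁆ := by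
  have h : cj t ⁅W, A⁆ = ⁅cj t W, cj t A⁆ := map_commutator _ _ _
  rw [h, cj_eq_of_mem_normalizer ht]

end conj

section more

variable {M : NatKM F S P W ⊥ k} {A : Subgroup G}
variable (hPW : P ≤ normalizer (W : Set G)) (hSP : S ≤ P)
include hPW hSP

/-- conjugates of `A` are root groups of all factors -/
theorem exists_rt [Finite G] [CharP F 2] {i : Fin k} (h : MinOffM W S A) (hr : Rt M i A) (j : Fin k) :
    ∃ t ∈ S, Rt M j (cj t A) := by
  obtain ⟨t, ht, hl⟩ := exists_cj_ln (M := M) hPW hSP i j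
  obtain ⟨j', hj'⟩ := Rt.of (M := M) hPW hSP (minOffM_cj (hSP.trans hPW) h ht)
  have h1 := hj'.comm_eq hPW hSP
  rw [comm_cj t (hPW (hSP ht)), hr.comm_eq hPW hSP, hl] at h1
  have h2 : j = j' := ln_injective h1
  exact ⟨t, ht, h2 ▸ hj'⟩

/-- the points are the lines -/
theorem pts_eq {i : Fin k} (hr : Rt M i A) : pts W S A = (fun j => ln M {j}) '' Set.univ := by
  ext R
  constructor
  · rintro ⟨s, hs, rfl⟩
    rw [hr.comm_eq hPW hSP]
    obtain ⟨j, hj⟩ := exists_cj_ln' (M := M) hPW hSP hs i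
    exact ⟨j, Set.mem_univ _, hj.symm⟩
  · rintro ⟨j, -, rfl⟩
    obtain ⟨t, ht, hl⟩ := exists_cj_ln (M := M) hPW hSP i j
    exact ⟨t, ht, by rw [hr.comm_eq hPW hSP]; exact hl.symm⟩

theorem sSup_pts {i : Fin k} (hr : Rt M i A) : sSup (pts W S A) = ln M Set.univ := by
  rw [pts_eq hPW hSP hr, sSup_ln]

theorem sSup_pts_diff {i : Fin k} (hr : Rt M i A) (j : Fin k) :
    sSup (pts W S A \ {ln M {j}}) = ln M {j}ᶜ := by
  have h1 : pts W S A \ {ln M {j}} = (fun j => ln M {j}) '' {j}ᶜ := by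
    rw [pts_eq hPW hSP hr, Set.image_univ, Set.image_compl_eq_range_sdiff_image ln_injective, Set.image_singleton]
  rw [h1, sSup_ln]

/-- full vectors -/
theorem full_iff {i : Fin k} (hr : Rt M i A) {v : G} : (v ∈ sSup (pts W S A) ∧
    ∀ r ∈ pts W S A, v ∉ sSup (pts W S A \ {r})) ↔ v ∈ W ∧ (∀ j, M.e v j 1 = 0) ∧ ∀ j, M.e v j ≠ 0 := by
  rw [sSup_pts hPW hSP hr]
  constructor
  · rintro ⟨h1, h2⟩
    refine ⟨h1.1, h1.2.1, fun j h0 => ?_⟩
    have h3 := h2 (ln M {j}) (by rw [pts_eq hPW hSP hr]; exact ⟨j, Set.mem_univ _, rfl⟩)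
    rw [sSup_pts_diff hPW hSP hr] at h3
    refine h3 ⟨h1.1, h1.2.1, fun j' hj' => ?_⟩
    have : j' = j := not_not.1 hj'
    rw [this, h0]
  · rintro ⟨h1, h2, h3⟩
    refine ⟨⟨h1, h2, fun j hj => absurd (Set.mem_univ j) hj⟩, fun r hrr => ?_⟩
    rw [pts_eq hPW hSP hr] at hrr
    obtain ⟨j, -, rfl⟩ := hrr
    rw [sSup_pts_diff hPW hSP hr]
    exact fun h4 => h3 j (h4.2.2 j (not_not.2 rfl))

omit hPW hSP in
theorem lift_ac (A' : Fin k → Matrix.SpecialLinearGroup (Fin 2) F) : ∃ g ∈ P, Ac M g A' := by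
  obtain ⟨g, hg, h⟩ := M.lift A'
  exact ⟨g, hg, h.1⟩

omit hSP in
/-- vectors with the same support are conjugate -/
theorem conj_of {v w : G} (hv : v ∈ W) (hw : w ∈ W) (h : ∀ j, M.e v j ≠ 0) (h' : ∀ j, M.e w j ≠ 0) :
    ∃ p ∈ P, w = p * v * p⁻¹ := by
  choose A' hA' using fun j => exists_ap (h j) (h' j)
  obtain ⟨p, hp, hac⟩ := lift_ac (M := M) A'
  refine ⟨p, hp, e_inj (M := M) hw (cmem hPW hp hv) ?_⟩
  funext j
  rw [hac v hv j, hA' j]

theorem gen [Finite G] [Finite F] [CharP F 2] {i : Fin k} (hA : MinOffM W S A) (hr : Rt M i A) :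
    ∃ X : Finset G, (∀ x ∈ X, x ∈ P) ∧ (centralizer (W : Set G)).relIndex A ^ X.card ≤ Nat.card W ∧
    W ⊓ (⨅ x ∈ X, centralizer ((cj x A : Subgroup G) : Set G)) = ⊥ ∧
    ∀ p ∈ P, cj p A ≤ (⨆ x ∈ X, cj x A) ⊔ (P ⊓ centralizer (W : Set G)) := by
  classical
  choose t ht hrt using exists_rt (M := M) hPW hSP hA hr
  obtain ⟨w, hw, hwac⟩ := lift_ac (M := M) fun _ => wm 1 one_ne_zero
  set X : Finset G := Finset.univ.image t ∪ Finset.univ.image (fun j => w * t j) with hX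
  have hX1 : ∀ j, t j ∈ X := fun j => Finset.mem_union_left _ (Finset.mem_image_of_mem _ (Finset.mem_univ _))
  have hX2 : ∀ j, w * t j ∈ X := fun j =>
    Finset.mem_union_right _ (Finset.mem_image_of_mem (fun j => w * t j) (Finset.mem_univ _))
  have hXP : ∀ x ∈ X, x ∈ P := by
    intro x hx
    rcases Finset.mem_union.1 hx with h1 | h1 <;> obtain ⟨j, -, rfl⟩ := Finset.mem_image.1 h1
    · exact hSP (ht j)
    · exact mul_mem hw (hSP (ht j))
  have hAP : A ≤ P := hA.le.trans hSP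
  refine ⟨X, hXP, ?_, ?_, ?_⟩
  · rw [hr.relIndex hPW hSP, card_W M]
    refine Nat.pow_le_pow_right Nat.card_pos ?_
    have h1 : X.card ≤ _ := Finset.card_union_le (Finset.univ.image t) (Finset.univ.image (fun j => w * t j))
    have h2 : (Finset.univ.image t).card ≤ k := Finset.card_image_le.trans (by simp)
    have h3 : (Finset.univ.image (fun j => w * t j)).card ≤ k := Finset.card_image_le.trans (by simp)
    omega
  · rw [eq_bot_iff]
    rintro v ⟨hv, hc⟩
    have hc' : ∀ x ∈ X, v ∈ centralizer ((cj x A : Subgroup G) : Set G) := by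
      intro x hx
      have := mem_iInf.1 (mem_iInf.1 hc x) hx
      exact this
    have h1 : ∀ j, M.e v j 1 = 0 := fun j => (hrt j).zero_of_cent hv (hc' _ (hX1 j))
    have h0 : ∀ j, M.e v j 0 = 0 := by
      intro j
      have hu : w⁻¹ * v * w ∈ W := by
        have := cmem hPW (inv_mem hw) hv
        rwa [inv_inv] at this
      have h2 : w⁻¹ * v * w ∈ centralizer ((cj (t j) A : Subgroup G) : Set G) := by
        have h3 := hc' _ (hX2 j)
        rw [← cj_cj, ← cj_centralizer, mem_cj] at h3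
        exact h3
      have h3 := (hrt j).zero_of_cent hu h2
      have h4 := hwac _ hu j
      have e1 : w * (w⁻¹ * v * w) * w⁻¹ = v := by group
      rw [e1] at h4
      rw [h4, ap_zero', wm_00, wm_01, h3]
      ring
    rw [mem_bot]
    refine e_inj (M := M) hv (one_mem _) ?_
    rw [e_one]
    funext j
    exact ext2 (h0 j) (h1 j)
  · set K : Subgroup G := (⨆ x ∈ X, cj x A) ⊔ (P ⊓ centralizer (W : Set G)) with hK
    have hKx : ∀ x ∈ X, cj x A ≤ K := fun x hx =>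
      (le_iSup₂_of_le x hx le_rfl : cj x A ≤ ⨆ x ∈ X, cj x A).trans le_sup_left
    let Γ : Subgroup (Fin k → Matrix.SpecialLinearGroup (Fin 2) F) :=
      { carrier := {B | ∃ m ∈ K, m ∈ P ∧ Ac M m B}
        mul_mem' := by
          rintro B B' ⟨m, hm, hmP, hmB⟩ ⟨m', hm', hmP', hmB'⟩
          exact ⟨m * m', mul_mem hm hm', mul_mem hmP hmP', Ac.mul hPW hmP' hmB hmB'⟩
        one_mem' := ⟨1, one_mem _, one_mem _, ac_one (one_mem _)⟩
        inv_mem' := by
          rintro B ⟨m, hm, hmP, hmB⟩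
          exact ⟨m⁻¹, inv_mem hm, inv_mem hmP, hmB.inv hPW hmP⟩ }
    have hup : ∀ j c, Pi.mulSingle j (up c) ∈ Γ := by
      intro j c
      obtain ⟨a, ha, hac⟩ := (hrt j).ex c
      exact ⟨a, hKx _ (hX1 j) ha, hSP ((hrt j).le ha), hac⟩
    have hlo : ∀ j c, Pi.mulSingle j (lo c) ∈ Γ := by
      intro j c
      obtain ⟨a, ha, hac⟩ := (hrt j).ex (-c)
      have haP := hSP ((hrt j).le ha)
      have h1 := Ac.mul hPW (inv_mem hw) (Ac.mul hPW haP hwac hac) (hwac.inv hPW hw)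
      have e1 : (fun _ => wm 1 one_ne_zero : Fin k → Matrix.SpecialLinearGroup (Fin 2) F) *
          Pi.mulSingle j (up (-c)) * (fun _ => wm 1 one_ne_zero)⁻¹ = Pi.mulSingle j (lo c) := by
        funext j'
        rw [Pi.mul_apply, Pi.mul_apply, Pi.inv_apply]
        by_cases hj : j' = j
        · subst hj
          rw [Pi.mulSingle_eq_same, Pi.mulSingle_eq_same, wm_up, mul_inv_cancel_right]
          congr 1
          ring
        · rw [Pi.mulSingle_eq_of_ne hj, Pi.mulSingle_eq_of_ne hj, mul_one, mul_inv_cancel]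
      rw [e1] at h1
      refine ⟨w * a * w⁻¹, hKx _ (hX2 j) ?_, mul_mem (mul_mem hw haP) (inv_mem hw), h1⟩
      rw [← cj_cj, mem_cj]
      have e2 : w⁻¹ * (w * a * w⁻¹) * w = a := by group
      rwa [e2]
    have hall : ∀ B, B ∈ Γ := by
      intro B
      refine pi_mem_of_mulSingle_mem B fun j => ?_
      obtain ⟨a, b, c, d, h1⟩ := exists_up_lo (B j)
      rw [h1, Pi.mulSingle_mul, Pi.mulSingle_mul, Pi.mulSingle_mul]
      exact mul_mem (mul_mem (mul_mem (hup j a) (hlo j b)) (hup j c)) (hlo j d)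
    rintro p hp _ ⟨a, ha, rfl⟩
    change p * a * p⁻¹ ∈ K
    obtain ⟨c, hc⟩ := hr.acts a ha
    obtain ⟨B, hB⟩ := M.norm p hp a (hAP ha) _ hc
    obtain ⟨m, hm, hmP, hmB⟩ := hall B
    have hpa : p * a * p⁻¹ ∈ P := mul_mem (mul_mem hp (hAP ha)) (inv_mem hp)
    have h1 := Ac.mul hPW hpa (hmB.inv hPW hmP) hB
    rw [inv_mul_cancel] at h1
    have h4 : m⁻¹ * (p * a * p⁻¹) ∈ P := mul_mem (inv_mem hmP) hpa
    have h2 : m⁻¹ * (p * a * p⁻¹) ∈ K :=
      (le_sup_right : P ⊓ centralizer (W : Set G) ≤ K) ⟨h4, cent_of_ac (M := M) hPW h4 h1⟩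
    have h3 := mul_mem hm h2
    rwa [mul_inv_cancel_left] at h3

end more

end NatR

open NatR in
open Cfsg.Agent.MinSimple.VModule (zc_le_zl le_normalizer_zl) in
/-- **(N)**: the interface `RP` for natural modules. -/
theorem rp_of_natKM {G : Type u} [Group G] [Finite G] {S P : Subgroup G} (hSP : S ≤ P) (hD : FrameFF.cv S P = ⊥)
    {F : Type} [Field F] [Finite F] [CharP F 2] {k : ℕ} (M : FFThm.NatKM F S P (zl S P) (FrameFF.cv S P) k) :
    RP S P := by
  rw [hD] at M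
  have hPW : P ≤ normalizer (zl S P : Set G) := le_normalizer_zl S P
  have hz : ∀ z ∈ zc S, z ≠ 1 → z ∈ zl S P ∧ (∀ j, M.e z j 1 = 0) ∧ ∀ j, M.e z j ≠ 0 := by
    intro z hz hz1
    have hzW := zc_le_zl S P hz
    have hcen : ∀ s ∈ S, s * z * s⁻¹ = z := by
      intro s hs
      rw [(ChoiceBase.mem_zc.1 hz).2.2 s hs]
      group
    refine ⟨hzW, fun j => ?_, fun j h0 => hz1 ?_⟩
    · obtain ⟨s, hs, hac⟩ := M.unip fun _ => 1
      have h1 := hac.1 z hzW j
      rw [hcen s hs, ap_up] at h1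
      have h2 := congrFun h1 0
      simp only [Matrix.cons_val_zero, one_mul] at h2
      exact left_eq_add.1 h2
    · refine e_inj (M := M) hzW (one_mem _) ?_
      rw [e_one]
      funext j'
      obtain ⟨s, hs, h1⟩ := M.trans j j'
      have h2 := (h1 z hzW).2 h0
      rwa [hcen s hs] at h2
  refine ⟨?_, ?_, ?_, ?_, ?_, ?_, ?_, ?_, ?_, ?_⟩
  · intro A hA
    obtain ⟨i, hr⟩ := Rt.of (M := M) hPW hSP hA
    rw [hr.comm_eq hPW hSP, card_ln, hr.relIndex hPW hSP]
  · intro A hA v hv hvA c hc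
    obtain ⟨i, hr⟩ := Rt.of (M := M) hPW hSP hA
    rw [hr.comm_eq hPW hSP] at hc
    have h1 : M.e v i 1 ≠ 0 := fun h0 => hvA (hr.fix hPW hSP hv h0)
    obtain ⟨a, ha, hac⟩ := hr.ex (M.e c i 0 / M.e v i 1)
    refine ⟨a, ha, ?_⟩
    have haP := hSP (hr.le ha)
    have hm := cmem hPW haP hv
    refine e_inj (M := M) (mul_mem hm (inv_mem hv)) hc.1 ?_
    funext j
    rw [M.mul _ hm _ (inv_mem hv), e_inv hv, Pi.add_apply, Pi.neg_apply]
    by_cases hj : j = i
    · subst hj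
      rw [ac_at hac hv]
      refine ext2 ?_ ?_
      · simp only [Pi.add_apply, Pi.neg_apply, Matrix.cons_val_zero]
        field_simp
        ring
      · simp [hc.2.1]
    · rw [ac_ne hac hv hj, add_neg_cancel, hc.2.2 j hj]
  · intro A B hA hB s hs
    obtain ⟨i, hr⟩ := Rt.of (M := M) hPW hSP hA
    obtain ⟨i', hr'⟩ := Rt.of (M := M) hPW hSP hB
    rw [hr.comm_eq hPW hSP]
    obtain ⟨j, hj⟩ := exists_cj_ln' (M := M) hPW hSP hs i
    rw [hj]
    exact fun v hv => hr'.fix hPW hSP hv.1 (hv.2.1 i')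
  · intro A B hA hB
    obtain ⟨i, hr⟩ := Rt.of (M := M) hPW hSP hA
    obtain ⟨i', hr'⟩ := Rt.of (M := M) hPW hSP hB
    obtain ⟨t, ht, h1⟩ := exists_cj_ln (M := M) hPW hSP i i'
    exact ⟨t, ht, by rw [hr.comm_eq hPW hSP, hr'.comm_eq hPW hSP, h1]⟩
  · intro A hA
    obtain ⟨i, hr⟩ := Rt.of (M := M) hPW hSP hA
    rw [hr.comm_eq hPW hSP, card_ln, card_W M, pts_eq hPW hSP hr, Set.ncard_image_of_injective _ ln_injective,
      Set.ncard_univ, Nat.card_fin]
  · intro A hA v hv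
    obtain ⟨i, hr⟩ := Rt.of (M := M) hPW hSP hA
    have h1 : ∀ j, ∃ B : Matrix.SpecialLinearGroup (Fin 2) F, ap B (M.e v j) 1 = 0 := by
      intro j
      by_cases h0 : M.e v j = 0
      · exact ⟨1, by rw [ap_one, h0]; rfl⟩
      · obtain ⟨B, hB⟩ := exists_ap h0 (show (![1, 0] : Fin 2 → F) ≠ 0 from fun h => one_ne_zero (congrFun h 0))
        exact ⟨B, by rw [hB]; rfl⟩
    choose B hB using h1
    obtain ⟨p, hp, hac⟩ := lift_ac (M := M) B
    refine ⟨p, hp, ?_⟩
    rw [sSup_pts hPW hSP hr]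
    exact ⟨cmem hPW hp hv, fun j => by rw [hac v hv j]; exact hB j, fun j hj => absurd (Set.mem_univ j) hj⟩
  · intro A hA z hz0 hz1
    obtain ⟨i, hr⟩ := Rt.of (M := M) hPW hSP hA
    exact (full_iff (M := M) hPW hSP hr).2 (hz z hz0 hz1)
  · intro A hA z hz0 hz1 v hv hv1
    obtain ⟨i, hr⟩ := Rt.of (M := M) hPW hSP hA
    obtain ⟨h1, -, h3⟩ := (full_iff (M := M) hPW hSP hr).1 ⟨hv, hv1⟩
    obtain ⟨h4, -, h5⟩ := hz z hz0 hz1
    exact conj_of (M := M) hPW h4 h1 h5 h3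
  · intro z hz0 hz1 D hPD hzD v hv
    obtain ⟨h4, -, h5⟩ := hz z hz0 hz1
    have key : ∀ w ∈ zl S P, (∀ j, M.e w j ≠ 0) → w ∈ D := by
      intro w hw hw1
      obtain ⟨p, hp, h6⟩ := conj_of (M := M) hPW h4 hw h5 hw1
      rw [h6]
      exact (mem_normalizer_iff.1 (hPD hp) z).1 hzD
    have h7 : ∀ x : Fin 2 → F, ∃ y : Fin 2 → F, y ≠ 0 ∧ x - y ≠ 0 := by
      intro x
      by_cases hx : x = ![1, 0]
      · refine ⟨![0, 1], fun h => one_ne_zero (congrFun h 1), fun h => ?_⟩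
        rw [hx] at h
        have := congrFun h 0
        simp at this
      · exact ⟨![1, 0], fun h => one_ne_zero (congrFun h 0), fun h => hx (sub_eq_zero.1 h)⟩
    choose y hy1 hy2 using h7
    obtain ⟨w, hw, hew⟩ := M.surj fun j => y (M.e v j)
    have hw1 : w ∈ D := key w hw fun j => by rw [hew]; exact hy1 _
    have hw2 : v * w⁻¹ ∈ D := by
      refine key _ (mul_mem hv (inv_mem hw)) fun j => ?_
      rw [M.mul v hv _ (inv_mem hw), e_inv hw, hew, Pi.add_apply, Pi.neg_apply, ← sub_eq_add_neg]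
      exact hy2 _
    have := mul_mem hw2 hw1
    rwa [inv_mul_cancel_right] at this
  · intro A hA
    obtain ⟨i, hr⟩ := Rt.of (M := M) hPW hSP hA
    exact gen (M := M) hPW hSP hA hr

end Cfsg.Agent.Omega.NOThreeL.NF
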