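import Cfsg.Agent.Omega.NOThreeL.NF.Defs
import Cfsg.Agent.Omega.NOThreeL.StarEnd

/-!
# THEOREM NF (#17343): `RP S P` from the FF theorem

* `NatRP`, `SymRP` : the two cases of the FF theorem (`NF/Nat.lean`, `NF/Sym.lean`), as named Props;
* `rp_of` : `RP S P` for every `P ∈ P*(S)` with an offender on `V_P`, if `C_Z(P) = 1`.
-/

set_option autoImplicit false

namespace Cfsg.Agent.Omega.NOThreeL.NF

open Subgroup Cfsg
open Cfsg.Agent.ZN
open Cfsg.Agent.Omega.MinPar Cfsg.Agent.Omega.Frame Cfsg.Agent.Omega.FrameNOFF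
open Cfsg.Agent.Omega.FFThm (ElemM OffM NoOverM ConclM NatKM SymKM)
open Cfsg.Agent.Omega.FrameFF (cv)
open Cfsg.Agent.Omega.NOThreeL.Basic (DataZ)

universe u

/-- The natural case. -/
def NatRP : Prop :=
  ∀ (G : Type u) [Group G] [Finite G], IsCharacteristicTwoType G → ∀ (S : Sylow 2 G) (P : Subgroup G),
    IsParS (S : Subgroup G) P → cv (S : Subgroup G) P = ⊥ → NoOverM (zl (S : Subgroup G) P) P →
      ∀ (F : Type) [Field F] [Finite F] [CharP F 2] (k : ℕ), 0 < k →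
        NatKM F (S : Subgroup G) P (zl (S : Subgroup G) P) (cv (S : Subgroup G) P) k → RP (S : Subgroup G) P

/-- The symmetric case. -/
def SymRP : Prop :=
  ∀ (G : Type u) [Group G] [Finite G], IsCharacteristicTwoType G → ∀ (S : Sylow 2 G) (P : Subgroup G),
    IsParS (S : Subgroup G) P → cv (S : Subgroup G) P = ⊥ → NoOverM (zl (S : Subgroup G) P) P →
      ∀ k m : ℕ, 0 < k → 2 ≤ m →
        SymKM (S : Subgroup G) P (zl (S : Subgroup G) P) (cv (S : Subgroup G) P) k m → RP (S : Subgroup G) P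

/-- **`RP` from the two cases.** -/
theorem rp_of (hN : NatRP.{u}) (hS : SymRP.{u}) {G : Type u} [Group G] [Finite G] (h : Ctx G)
    {S : Sylow 2 G} (D : DataZ (S : Subgroup G)) {P : Subgroup G} (hP : IsParS (S : Subgroup G) P)
    (hoff : ∃ A : Subgroup G, A ≤ P ∧ OffM (zl (S : Subgroup G) P) A) : RP (S : Subgroup G) P := by
  have hc := h.char2
  have hcv : cv (S : Subgroup G) P = ⊥ := D.cv_eq hc hP
  obtain ⟨hno, hcon⟩ := StarEnd.stmtM G (S : Subgroup G) P (MinSimple.EmptyTI.syl_of_le hP.le)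
    hP.toIsMinPar (hP.isLoc.char2 S hc) hoff
  rcases hcon with ⟨F, _, _, _, k, hk, ⟨M⟩⟩ | ⟨k, m, hk, hm, ⟨M⟩⟩
  · exact hN G hc S P hP hcv hno F k hk M
  · exact hS G hc S P hP hcv hno k m hk hm M

end Cfsg.Agent.Omega.NOThreeL.NF
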