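import Cfsg.Agent.Omega.NOThreeL.NF.SymPlug
import Cfsg.Agent.Omega.NOThreeL.NF.Rp

/-!
# THEOREM NF: the interface `RP` for even-subset modules (#17343, helper863), conclusion

`rp_of_symKM` : `P ∈ L(S)`, `V_P` of type `S_{2^m+1}^k` (`SymKM`), `C_{V_P}(O²(P)) = 1` imply `RP S P`.
`symRP : SymRP`.
-/

set_option autoImplicit false

namespace Cfsg.Agent.Omega.NOThreeL.NF.SymRP

open Subgroup Cfsg Cfsg.Agent.ZN Cfsg.Agent.ZN.ChoiceBase
open Cfsg.Agent.Omega.FFThm (ElemM OffM NoOverM ConclM SymK SymKM ActsSym)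
open Cfsg.Agent.Omega.Half (Amb)
open Cfsg.Agent.Omega.Half.SymA
open Cfsg.Agent.Omega.MinPar (IsLoc)
open Cfsg.Agent.Omega.NOThreeL.FourLine (mem_zpowers_iff)
open scoped Classical commutatorElement

universe u

variable {G : Type u} [Group G]

section ad

variable [Finite G] {S : Sylow 2 G} {P V : Subgroup G} {k m : ℕ} {M : SymK (S : Subgroup G) P V ⊥ k m}
  (hA : Amb (S : Subgroup G) P V) {A : Subgroup G} {p q : Pt k m}
include hA

omit [Finite G] in
theorem card_zp {c : G} (hc : IsC M c p q) (hpq : p ≠ q) : Nat.card (zpowers c) = 2 := by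
  rw [Nat.card_zpowers]
  refine orderOf_eq_prime ?_ (hc.ne_one hpq)
  rw [pow_two]
  exact sq_one hA hc.1

/-- the matching of the nonzero points -/
theorem exists_mt (hm : 1 ≤ m) (h : Sw M p q) : ∃ μ : Pt k m → Pt k m, SymG.Mt μ ∧ ∀ a, a.2 ≠ 0 → Sw M a (μ a) := by
  have h1 : ∀ a : Pt k m, ∃ b : Pt k m, (a.2 ≠ 0 → Sw M a b) ∧ (a.2 = 0 → b = a) := by
    intro a
    by_cases ha : a.2 = 0
    · exact ⟨a, fun h0 => absurd ha h0, fun _ => rfl⟩
    · obtain ⟨b, hb⟩ := exists_sw hA hm h ha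
      exact ⟨b, fun _ => hb, fun h0 => absurd h0 ha⟩
  choose μ h1 h2 using h1
  refine ⟨μ, ⟨fun a => ?_, fun a ha => ?_, fun a ha => ?_, fun a ha => ?_⟩, h1⟩
  · by_cases ha : a.2 = 0
    · rw [h2 a ha]
    · exact (h1 a ha).2.1.symm
  · exact (h1 a ha).symm.nz hA hm
  · exact (h1 a ha).1.symm
  · have h3 := (h1 a ha).symm
    exact (h1 _ (h3.nz hA hm)).uniq hA S.isPGroup' hm h3

/-- the number of points -/
theorem AD.ncard (hm : 1 ≤ m) (h : AD M A p q) : 2 * (pts V (S : Subgroup G) A).ncard = 2 ^ m * k := by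
  obtain ⟨μ, hμ, hsw⟩ := exists_mt hA hm h.sw
  have h1 : ∀ a : Pt k m, ∃ c, a.2 ≠ 0 → IsC M c a (μ a) := by
    intro a
    by_cases ha : a.2 = 0
    · exact ⟨1, fun h0 => absurd ha h0⟩
    · obtain ⟨c, hc⟩ := exists_isC (M := M) (hsw a ha).2.1
      exact ⟨c, fun _ => hc⟩
  choose c hc using h1
  let N : Finset (Pt k m) := Finset.univ.filter fun a => a.2 ≠ 0
  have hN : ∀ a, a ∈ N ↔ a.2 ≠ 0 := fun a => by simp [N]
  let g : Pt k m → Subgroup G := fun a => zpowers (c a)
  have hpts : pts V (S : Subgroup G) A = ↑(N.image g) := by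
    ext r
    rw [h.mem_pts hA hm, Finset.coe_image]
    constructor
    · rintro ⟨a, b, d, hab, hd, rfl⟩
      have ha := hab.nz hA hm
      refine ⟨a, (hN a).2 ha, ?_⟩
      have h2 := hab.uniq hA S.isPGroup' hm (hsw a ha)
      subst h2
      change zpowers (c a) = zpowers d
      rw [(hc a ha).eq hd]
    · rintro ⟨a, ha, rfl⟩
      have ha := (hN a).1 ha
      exact ⟨a, μ a, c a, hsw a ha, hc a ha, rfl⟩
  have hfib : ∀ r ∈ N.image g, (N.filter fun a => g a = r).card = 2 := by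
    intro r hr
    obtain ⟨a, ha, rfl⟩ := Finset.mem_image.1 hr
    have ha' := (hN a).1 ha
    have h2 : (N.filter fun b => g b = g a) = {a, μ a} := by
      ext b
      rw [Finset.mem_filter, hN, Finset.mem_insert, Finset.mem_singleton]
      constructor
      · rintro ⟨hb, hgb⟩
        have h3 : c b ∈ zpowers (c a) := by
          rw [show zpowers (c a) = g a from rfl, ← hgb]
          exact mem_zpowers _
        rcases (mem_zpowers_iff (sq_one hA (hc a ha').1)).1 h3 with h4 | h4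
        · exact absurd h4 ((hc b hb).ne_one (hsw b hb).1)
        · have h5 := (hc b hb).left (hsw b hb).1
          rw [h4] at h5
          by_contra hcon
          push Not at hcon
          rw [(hc a ha').zero hcon.1 hcon.2] at h5
          exact zero_ne_one h5
      · rintro (rfl | rfl)
        · exact ⟨ha', rfl⟩
        · have h3 := hμ.nz a ha'
          refine ⟨h3, ?_⟩
          change zpowers (c (μ a)) = zpowers (c a)
          have h4 := hc (μ a) h3
          rw [hμ.inv a ha'] at h4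
          rw [h4.symm.eq (hc a ha')]
    rw [h2, Finset.card_pair (hμ.ne a ha').symm]
  have hcard : N.card = 2 ^ m * k := by
    have h3 : N = Finset.univ ×ˢ (Finset.univ.filter fun x : Fin (2 ^ m + 1) => x ≠ 0) := by
      ext a
      simp [N]
    rw [h3, Finset.card_product, Finset.card_univ, Fintype.card_fin, Finset.filter_ne', Finset.card_erase_of_mem
      (Finset.mem_univ _), Finset.card_univ, Fintype.card_fin, Nat.add_sub_cancel, mul_comm]
  rw [hpts, Set.ncard_coe_finset, ← hcard, Finset.card_eq_sum_card_image g N, Finset.sum_congr rfl hfib,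
    Finset.sum_const, smul_eq_mul, mul_comm]

end ad

/-- **(Y)**: the interface `RP` for even-subset modules. -/
theorem rp_of_symKM {G : Type u} [Group G] [Finite G] (hG : IsCharacteristicTwoType G) {S : Sylow 2 G}
    {P : Subgroup G} (hP : IsLoc (S : Subgroup G) P) (hD : FrameFF.cv (S : Subgroup G) P = ⊥) {k m : ℕ} (hm : 1 ≤ m)
    (M : SymKM (S : Subgroup G) P (zl (S : Subgroup G) P) (FrameFF.cv (S : Subgroup G) P) k m) :
    RP (S : Subgroup G) P := by
  rw [hD] at M
  have hA : Amb (S : Subgroup G) P (zl (S : Subgroup G) P) := Half.amb_of_loc hG S hP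
  refine ⟨?_, ?_, ?_, ?_, ?_, ?_, ?_, ?_, ?_, ?_⟩
  · intro A h
    obtain ⟨⟨p, q, had⟩, h2⟩ := exists_ad M hA hm h
    obtain ⟨c, hc⟩ := exists_isC (M := M.toSymK) had.sw.2.1
    rw [had.comm_eq hA hm hc, h2, card_zp hA hc had.sw.1]
  · intro A h v hv hvA d hd
    obtain ⟨⟨p, q, had⟩, h2⟩ := exists_ad M hA hm h
    obtain ⟨c, hc⟩ := exists_isC (M := M.toSymK) had.sw.2.1
    rw [had.comm_eq hA hm hc] at hd
    rcases (mem_zpowers_iff (sq_one hA hc.1)).1 hd with rfl | rfl
    · exact ⟨1, one_mem _, by group⟩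
    · obtain ⟨b, hb, hπ⟩ := had.ex
      refine ⟨b, hb, ?_⟩
      have hbP := hA.TH (had.le hb)
      have hne : E M.toSymK v p ≠ E M.toSymK v q := by
        intro h0
        apply hvA
        rw [mem_centralizer_iff]
        intro a ha
        rcases had.all a ha with h1 | h1
        · exact (mem_centralizer_iff.1 h1 v hv).symm
        · have h3 := comm_of_eq hA (hA.TH (had.le ha)) h1 hv h0
          rwa [mul_inv_eq_iff_eq_mul] at h3
      rcases commutator_eq hA had.sw.1 hbP hπ hv hc with h3 | h3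
      · exfalso
        apply hne
        rw [commutatorElement_eq_one_iff_mul_comm] at h3
        exact eq_of_comm hπ hv (by rw [← h3, mul_inv_cancel_right])
      · have h4 : b * v * b⁻¹ * v⁻¹ = ⁅v, b⁆⁻¹ := by rw [commutatorElement_def]; group
        rw [h4, h3, inv_eq_iff_mul_eq_one]
        exact sq_one hA hc.1
  · intro A B h h' s hs
    obtain ⟨⟨p, q, had⟩, h2⟩ := exists_ad M hA hm h
    obtain ⟨⟨p', q', had'⟩, h2'⟩ := exists_ad M hA hm h'
    intro x hx
    have h1 : x ∈ sSup (pts (zl (S : Subgroup G) P) (S : Subgroup G) A) := le_sSup (show cj s _ ∈ pts _ _ _ from ⟨s, hs, rfl⟩) hx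
    obtain ⟨hxV, h3, -⟩ := (had.mem_R hA hm).1 h1
    rw [mem_centralizer_iff]
    intro b hb
    rcases had'.all b hb with h4 | h4
    · exact (mem_centralizer_iff.1 h4 x hxV).symm
    · have h5 := comm_of_eq hA (hA.TH (had'.le hb)) h4 hxV (h3 p' q' had'.sw)
      rwa [mul_inv_eq_iff_eq_mul] at h5
  · intro A B h h'
    obtain ⟨⟨p, q, had⟩, h2⟩ := exists_ad M hA hm h
    obtain ⟨⟨p', q', had'⟩, h2'⟩ := exists_ad M hA hm h'
    obtain ⟨c, hc⟩ := exists_isC (M := M.toSymK) had.sw.2.1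
    obtain ⟨s, hs, π, hπ, h3, h4⟩ := exists_conj hA hm had.sw had'.sw
    have h5 := hc.conj hA (hA.TH hs) hπ
    rw [h3, h4] at h5
    refine ⟨s, hs, ?_⟩
    rw [had.comm_eq hA hm hc, had'.comm_eq hA hm h5, cj_zpowers]
  · intro A h
    obtain ⟨⟨p, q, had⟩, h2⟩ := exists_ad M hA hm h
    obtain ⟨c, hc⟩ := exists_isC (M := M.toSymK) had.sw.2.1
    rw [had.ncard hA hm, had.comm_eq hA hm hc, card_zp hA hc had.sw.1]
    exact SymG.card_V M.toSymK
  · intro A h v hv
    obtain ⟨⟨p, q, had⟩, h2⟩ := exists_ad M hA hm h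
    exact had.toR hA hm hv
  · intro A h z hz hz1
    obtain ⟨⟨p, q, had⟩, h2⟩ := exists_ad M hA hm h
    have hE := E_zc (M := M.toSymK) hA hm hz hz1
    refine ⟨(had.mem_R hA hm).2 ⟨hA.zc hz, fun a b hab => ?_, fun a ha => ?_⟩, fun r hr h3 => ?_⟩
    · rw [hE, hE, if_neg (hab.nz hA hm), if_neg (hab.symm.nz hA hm)]
    · rw [hE, if_pos ha]
    · obtain ⟨a, b, c, hab, hc, rfl⟩ := (had.mem_pts hA hm).1 hr
      have h4 := ((had.mem_diff hA hm hab hc).1 h3).2
      rw [hE, if_neg (hab.nz hA hm)] at h4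
      exact one_ne_zero h4
  · intro A h z hz hz1 v hv hfull
    obtain ⟨⟨p, q, had⟩, h2⟩ := exists_ad M hA hm h
    have hE := E_zc (M := M.toSymK) hA hm hz hz1
    obtain ⟨hvV, h3, h4⟩ := (had.mem_R hA hm).1 hv
    refine ⟨1, one_mem _, ?_⟩
    rw [one_mul, inv_one, mul_one]
    refine inj M.toSymK hvV (hA.zc hz) fun a => ?_
    rw [hE]
    by_cases ha : a.2 = 0
    · rw [if_pos ha, h4 a ha]
    · rw [if_neg ha]
      obtain ⟨b, hab⟩ := exists_sw hA hm had.sw ha
      obtain ⟨c, hc⟩ := exists_isC (M := M.toSymK) hab.2.1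
      have h5 := hfull (zpowers c) ((had.mem_pts hA hm).2 ⟨a, b, c, hab, hc, rfl⟩)
      rw [had.mem_diff hA hm hab hc] at h5
      exact zmod2_ne.1 fun h0 => h5 ⟨hv, h0⟩
  · intro z hz hz1 D hD hzD
    exact SymG.le_of_full hA hD (hA.zc hz) hzD (E_zc (M := M.toSymK) hA hm hz hz1)
  · intro A h
    obtain ⟨⟨p, q, had⟩, h2⟩ := exists_ad M hA hm h
    exact (had.tp hA).exists_gen hA hm

end Cfsg.Agent.Omega.NOThreeL.NF.SymRP

namespace Cfsg.Agent.Omega.NOThreeL.NF

universe u

/-- the symmetric case of `NF/Rp.lean` -/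
theorem symRP : SymRP.{u} := fun _ _ _ hG _ _ hP hD _ _ _ _ hm M =>
  SymRP.rp_of_symKM hG hP.isLoc hD (by omega) M

end Cfsg.Agent.Omega.NOThreeL.NF
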