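import Cfsg.Agent.Omega.NOThreeL.NF.Main
import Cfsg.Agent.Omega.NOThreeL.NF.Rp
import Cfsg.Agent.Omega.NOThreeL.NF.Nat
import Cfsg.Agent.Omega.NOThreeL.NF.SymRp
import Cfsg.Agent.Omega.NOThreeL.Merge

/-!
# THEOREM NF (#17343, helper863), final form

* `natRP`, `rp` : the interface `RP S P` for every `P ∈ P*(S)` with an offender on `V_P`;
* `notFF` : in NO-3L with `C_Z(P) = 1` for all `P ∈ P*(S)`, `V* = ⟨Z^{⟨P*(S)⟩}⟩` is not FF;
* `vf` : THEOREM VF (`Merge.VF`).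
-/

set_option autoImplicit false

namespace Cfsg.Agent.Omega.NOThreeL.NF

open Subgroup Cfsg
open Cfsg.Agent.ZN
open Cfsg.Agent.Omega.MinPar Cfsg.Agent.Omega.Frame Cfsg.Agent.Omega.FrameNOFF
open Cfsg.Agent.Omega.NO3b.EZero (NotFF)
open Cfsg.Agent.Omega.FFThm (OffM)
open Cfsg.Agent.Omega.NOThreeL.Star (YS)
open Cfsg.Agent.Omega.NOThreeL.Basic (DataZ)

universe u

theorem natRP : NatRP.{u} := by
  intro G _ _ _ S P hP hcv _ F _ _ _ k _ M
  exact rp_of_natKM hP.le hcv M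

variable {G : Type u} [Group G] [Finite G] {S : Sylow 2 G}

theorem rp (h : Ctx G) (D : DataZ (S : Subgroup G)) {P : Subgroup G} (hP : IsParS (S : Subgroup G) P)
    (hoff : ∃ A : Subgroup G, A ≤ P ∧ OffM (zl (S : Subgroup G) P) A) : RP (S : Subgroup G) P :=
  rp_of natRP symRP h D hP hoff

/-- **THEOREM NF.** -/
theorem notFF (h : Ctx G) (hF : Full (S : Subgroup G)) (D : DataZ (S : Subgroup G)) :
    NotFF (zl (S : Subgroup G) (YS (S : Subgroup G))) :=
  nf h hF D fun _ hP hoff => rp h D hP hoff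

/-- **THEOREM VF.** -/
theorem vf : Merge.VF.{u} :=
  Merge.VF.of_notFF fun _ _ _ h _ hF D => notFF h hF D

end Cfsg.Agent.Omega.NOThreeL.NF
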