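import Cfsg.Agent.Omega.NOThreeL.Star

/-!
# THEOREM NF (#17343): the interface to the FF theorem

`W = zl S P`, `P ∈ P*(S)`, `C_Z(P) = 1`.

* `MinOffM W S A` : `A ≤ S` is an offender on `W` (image sense), no offender `B ≤ A` has a smaller image;
* `pts W S A` : the `S`-conjugates of `[W, A]` (the *points*);
* `RP S P` : what the FF theorem gives (`W` is natural^k or even-subset^k, `A` acts as one full root group or as
  one transposition): `|[W,A]| = |A : C_A(W)|`, `[v,A] = [W,A]` for `v ∈ W - C(A)`, the points commute with all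
  `B`, they are conjugate, `|W| = |[W,A]|^{2n}` with `n` the number of points, every vector of `W` is
  `P`-conjugate into `R = ⟨points⟩`, `z ∈ Z#` is a full vector of `R`, all full vectors of `R` are `P`-conjugate
  to `z`, `W` is irreducible, finitely many conjugates of `A` generate `⟨A^P⟩` modulo `C_P(W)`.
-/

set_option autoImplicit false

namespace Cfsg.Agent.Omega.NOThreeL.NF

open Subgroup Cfsg Cfsg.Agent.ZN Cfsg.Agent.ZN.ChoiceBase
open Cfsg.Agent.Omega.FFThm (ElemM OffM NoOverM ConclM)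
open scoped commutatorElement

universe u

variable {G : Type u} [Group G]

/-- A minimal offender in `S` on `W` (image sense). -/
structure MinOffM (W S A : Subgroup G) : Prop where
  le : A ≤ S
  off : OffM W A
  min : ∀ B : Subgroup G, B ≤ A → OffM W B →
    (centralizer (W : Set G)).relIndex A ≤ (centralizer (W : Set G)).relIndex B

/-- The points: the `S`-conjugates of `[W, A]`. -/
def pts (W S A : Subgroup G) : Set (Subgroup G) := {R | ∃ s ∈ S, R = cj s ⁅W, A⁆}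

/-- The interface to the FF theorem, `W = zl S P`. -/
structure RP (S P : Subgroup G) : Prop where
  card : ∀ A : Subgroup G, MinOffM (zl S P) S A →
    Nat.card ↥(⁅zl S P, A⁆ : Subgroup G) = (centralizer (zl S P : Set G)).relIndex A
  /-- `[v, A] = [W, A]` for `v ∈ W - C(A)` -/
  surj : ∀ A : Subgroup G, MinOffM (zl S P) S A → ∀ v ∈ zl S P, v ∉ centralizer (A : Set G) →
    ∀ c ∈ ⁅zl S P, A⁆, ∃ a ∈ A, a * v * a⁻¹ * v⁻¹ = c
  cent : ∀ A B : Subgroup G, MinOffM (zl S P) S A → MinOffM (zl S P) S B → ∀ s ∈ S,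
    cj s ⁅zl S P, A⁆ ≤ centralizer (B : Set G)
  conj : ∀ A B : Subgroup G, MinOffM (zl S P) S A → MinOffM (zl S P) S B → ∃ s ∈ S,
    ⁅zl S P, B⁆ = cj s ⁅zl S P, A⁆
  cardV : ∀ A : Subgroup G, MinOffM (zl S P) S A →
    Nat.card (zl S P) = Nat.card ↥(⁅zl S P, A⁆ : Subgroup G) ^ (2 * (pts (zl S P) S A).ncard)
  toR : ∀ A : Subgroup G, MinOffM (zl S P) S A → ∀ v ∈ zl S P, ∃ p ∈ P,
    p * v * p⁻¹ ∈ sSup (pts (zl S P) S A)
  zfull : ∀ A : Subgroup G, MinOffM (zl S P) S A → ∀ z ∈ zc S, z ≠ 1 →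
    z ∈ sSup (pts (zl S P) S A) ∧ ∀ r ∈ pts (zl S P) S A, z ∉ sSup (pts (zl S P) S A \ {r})
  /-- the full vectors of `R` are conjugate to `z` -/
  full : ∀ A : Subgroup G, MinOffM (zl S P) S A → ∀ z ∈ zc S, z ≠ 1 → ∀ v ∈ sSup (pts (zl S P) S A),
    (∀ r ∈ pts (zl S P) S A, v ∉ sSup (pts (zl S P) S A \ {r})) → ∃ p ∈ P, v = p * z * p⁻¹
  irr : ∀ z ∈ zc S, z ≠ 1 → ∀ D : Subgroup G, P ≤ normalizer (D : Set G) → z ∈ D → zl S P ≤ D
  /-- `⟨A^P⟩` modulo `C_P(W)` is generated by few conjugates without common fixed vector -/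
  gen : ∀ A : Subgroup G, MinOffM (zl S P) S A → ∃ X : Finset G, (∀ x ∈ X, x ∈ P) ∧
    (centralizer (zl S P : Set G)).relIndex A ^ X.card ≤ Nat.card (zl S P) ∧
    zl S P ⊓ (⨅ x ∈ X, centralizer ((cj x A : Subgroup G) : Set G)) = ⊥ ∧
    ∀ p ∈ P, cj p A ≤ (⨆ x ∈ X, cj x A) ⊔ (P ⊓ centralizer (zl S P : Set G))

end Cfsg.Agent.Omega.NOThreeL.NF
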