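import Cfsg.Agent.Omega.NOThreeL.Basic
import Cfsg.Agent.Omega.NO3b.EZeroBase

/-!
# NO-3L, THEOREM NF (7) (#17343, helper863)

`S` a Sylow 2-subgroup, `Z = Ω₁(Z(S))`, `C = C_G(Z)`, `Data S` the situation of NO-3L, `P ∈ P*(S)`.

* `exists_mul` : `N_G(Z) = C N_G(S)`;
* `exists_conj` : if `Z^{P'} ⊆ Z^P` for all `P' ∈ P*(S)` and `H = ⟨P, C⟩`, then `Z^{gh} ∈ Z^H` for all `h ∈ H` as soon
  as `Z^g ∈ Z^H`;
* `false_of` : **(7)** `Z^{P'} ⊆ Z^P` for all `P' ∈ P*(S)` is impossible.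
-/

set_option autoImplicit false

namespace Cfsg.Agent.Omega.NOThreeL.NF

open Subgroup Cfsg
open Cfsg.Agent.ZN
open Cfsg.Agent.ZN.ChoiceBase hiding mem_zc
open Cfsg.Agent.Omega.MinPar Cfsg.Agent.Omega.Frame Cfsg.Agent.Omega.FrameNOFF
open Cfsg.Agent.Omega.Node.NO3L
open Cfsg.Agent.MinSimple.VModule (mem_zc zc_le le_centralizer_zc zc_le_zl zl_le
  le_normalizer_zl normalizer_le_normalizer_zc le_normalizer_o2 o2_isPGroup)

universe u

variable {G : Type u} [Group G] [Finite G] {S : Sylow 2 G}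

omit [Finite G] in
theorem cj_mul_of_mem {g n : G} {A : Subgroup G} (h : n ∈ normalizer (A : Set G)) : cj (g * n) A = cj g A := by
  rw [← cj_cj, cj_eq_of_mem_normalizer h]

omit [Finite G] in
theorem CZ_le_normalizer : CZ (S : Subgroup G) ≤ normalizer (zc (S : Subgroup G) : Set G) :=
  centralizer_le_normalizer _

/-- `N_G(Z) = C_G(Z) N_G(S)` -/
theorem exists_mul {x : G} (hx : x ∈ normalizer (zc (S : Subgroup G) : Set G)) :
    ∃ c ∈ CZ (S : Subgroup G), ∃ n ∈ normalizer ((S : Subgroup G) : Set G), x = c * n := by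
  have hf : Fact (Nat.Prime 2) := ⟨Nat.prime_two⟩
  have h1 : cj x (S : Subgroup G) ≤ CZ (S : Subgroup G) := by
    have h2 := NO3b.EZero.cj_cent (g := x) (le_centralizer_zc (S : Subgroup G))
    rwa [cj_eq_of_mem_normalizer hx] at h2
  obtain ⟨c, hc, h3⟩ := NoFF.Main.exists_le_conj S (le_centralizer_zc _) (isPGroup_cj x S.isPGroup') h1
  have h4 : cj x (S : Subgroup G) = cj c (S : Subgroup G) :=
    eq_of_le_of_card_ge h3 (by rw [card_cj]; exact (card_cj _ _).ge)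
  refine ⟨c, hc, c⁻¹ * x, ?_, by group⟩
  exact NO3b.EZero.cj_eq_cj_iff.1 h4

omit [Finite G] in
/-- The conjugates of a member of `P*(S)` under `N_G(S)` are in `P*(S)`. -/
theorem isParS_cj {P : Subgroup G} (hP : IsParS (S : Subgroup G) P) {n : G}
    (hn : n ∈ normalizer ((S : Subgroup G) : Set G)) : IsParS (S : Subgroup G) (cj n P) :=
  (FrameNOFF.inv S).nF n hn P hP

/-- If `Z^g ∈ Z^H` then `Z^{gh} ∈ Z^H` for all `h ∈ H = ⟨P, C⟩`. -/
theorem exists_conj {P : Subgroup G} (hP : IsParS (S : Subgroup G) P)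
    (hZ : ∀ P' : Subgroup G, IsParS (S : Subgroup G) P' → ∀ p' ∈ P', ∃ p ∈ P,
      cj p' (zc (S : Subgroup G)) = cj p (zc (S : Subgroup G)))
    {g : G} (hg : ∃ h ∈ P ⊔ CZ (S : Subgroup G), cj g (zc (S : Subgroup G)) = cj h (zc (S : Subgroup G)))
    {h : G} (hh : h ∈ P ⊔ CZ (S : Subgroup G)) :
    ∃ h₁ ∈ P ⊔ CZ (S : Subgroup G), cj (g * h) (zc (S : Subgroup G)) = cj h₁ (zc (S : Subgroup G)) := by
  have key : ∀ y, y ∈ P ∨ y ∈ CZ (S : Subgroup G) → ∀ x : G,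
      (∃ h₁ ∈ P ⊔ CZ (S : Subgroup G), cj (g * x) (zc (S : Subgroup G)) = cj h₁ (zc (S : Subgroup G))) →
      ∃ h₁ ∈ P ⊔ CZ (S : Subgroup G), cj (g * (x * y)) (zc (S : Subgroup G)) = cj h₁ (zc (S : Subgroup G)) := by
    rintro y (hy | hy) x ⟨h₁, hh₁, he⟩
    · -- `h₁⁻¹ g x ∈ N_G(Z)`
      have h2 : h₁⁻¹ * (g * x) ∈ normalizer (zc (S : Subgroup G) : Set G) := NO3b.EZero.cj_eq_cj_iff.1 he
      obtain ⟨c, hc, n, hn, hcn⟩ := exists_mul h2
      obtain ⟨p, hp, hpe⟩ := hZ _ (isParS_cj hP hn) (n * y * n⁻¹) (NO3b.EZero.mem_cj_self hy)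
      refine ⟨h₁ * c * p, mul_mem (mul_mem hh₁ ((le_sup_right : CZ (S : Subgroup G) ≤ _) hc))
        ((le_sup_left : P ≤ _) hp), ?_⟩
      have e : g * (x * y) = h₁ * c * (n * y * n⁻¹) * n := by
        have h3 : g * x = h₁ * (c * n) := by rw [← hcn]; group
        calc g * (x * y) = g * x * y := by group
          _ = h₁ * c * (n * y * n⁻¹) * n := by rw [h3]; group
      rw [e, cj_mul_of_mem (normalizer_le_normalizer_zc _ hn), ← cj_cj, hpe, cj_cj]
    · refine ⟨h₁, hh₁, ?_⟩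
      rw [← mul_assoc, cj_mul_of_mem (CZ_le_normalizer hy), he]
  rw [sup_eq_closure] at hh
  induction hh using closure_induction_right with
  | one => rwa [mul_one]
  | mul_right x hx y hy ih => exact key y hy x ih
  | mul_inv_cancel x hx y hy ih => exact key y⁻¹ (hy.imp inv_mem inv_mem) x ih

/-- **THEOREM NF (7)**: in NO-3L it is impossible that `Z^{P'} ⊆ Z^P` for all `P' ∈ P*(S)`. -/
theorem false_of (h : Ctx G) (hF : Full (S : Subgroup G)) (D : Data (S : Subgroup G)) {P : Subgroup G}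
    (hP : IsParS (S : Subgroup G) P)
    (hZ : ∀ P' : Subgroup G, IsParS (S : Subgroup G) P' → ∀ p' ∈ P', ∃ p ∈ P,
      cj p' (zc (S : Subgroup G)) = cj p (zc (S : Subgroup G))) : False := by
  have hL := D.loc P hP
  have h2 : IsPGroup 2 (zl (S : Subgroup G) (P ⊔ CZ (S : Subgroup G))) :=
    S.isPGroup'.to_le ((hL.zl_le_o2 h.char2 S).trans (hL.loc.o2_le S))
  have h3 : zl (S : Subgroup G) (P ⊔ CZ (S : Subgroup G)) = ⊥ := by
    refine eq_bot_of_norm h S hF h2 (fun P' hP' => ?_) (le_sup_right.trans (le_normalizer_zl _ _))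
    have key : ∀ p' ∈ P', cj p' (zl (S : Subgroup G) (P ⊔ CZ (S : Subgroup G))) ≤
        zl (S : Subgroup G) (P ⊔ CZ (S : Subgroup G)) := by
      intro p' hp'
      obtain ⟨p, hp, hpe⟩ := hZ P' hP' p' hp'
      rw [cj_le_iff]
      refine iSup_le fun x => ?_
      obtain ⟨h₁, hh₁, he⟩ := exists_conj hP hZ (g := p') ⟨p, (le_sup_left : P ≤ _) hp, hpe⟩ x.2
      have h4 : cj h₁ (zc (S : Subgroup G)) ≤ zl (S : Subgroup G) (P ⊔ CZ (S : Subgroup G)) := by
        have h5 := cj_mono h₁ (zc_le_zl (S : Subgroup G) (P ⊔ CZ (S : Subgroup G)))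
        rwa [cj_eq_of_mem_normalizer (le_normalizer_zl _ _ hh₁)] at h5
      rw [← he, ← cj_cj, cj_le_iff] at h4
      exact h4
    intro p' hp'
    rw [mem_normalizer_iff_cj]
    refine le_antisymm (key p' hp') ?_
    have h4 := cj_mono p' (key p'⁻¹ (inv_mem hp'))
    rwa [cj_cj_inv] at h4
  exact MinSimple.Basic.zc_ne_bot S.isPGroup' (h.sylow_ne_bot S)
    (le_bot_iff.1 (h3 ▸ zc_le_zl (S : Subgroup G) (P ⊔ CZ (S : Subgroup G))))

end Cfsg.Agent.Omega.NOThreeL.NF
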