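import Cfsg.Agent.Omega.NOThreeL.NF.Conj
import Cfsg.Agent.Omega.NOThreeL.NF.Seven
import Cfsg.Agent.Omega.NOThreeL.RTools.Two
import Cfsg.Agent.Omega.NOThreeL.StarEnd

/-!
# THEOREM NF (#17343; THEOREM VF #16966): in NO-3L with `C_Z(P) = 1` for all `P ∈ P*(S)` the module
`V* = ⟨Ω₁(Z(S))^{⟨P*(S)⟩}⟩` is not FF

* `nf` : from the interface `RP S P` to the FF theorem, for all `P ∈ P*(S)` with an offender on `V_P`.
-/

set_option autoImplicit false

namespace Cfsg.Agent.Omega.NOThreeL.NF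

open Subgroup Cfsg
open Cfsg.Agent.ZN Cfsg.Agent.ZN.ChoiceBase
open Cfsg.Agent.Omega.MinPar Cfsg.Agent.Omega.Frame Cfsg.Agent.Omega.FrameNOFF
open Cfsg.Agent.Omega.Node.NO3L
open Cfsg.Agent.Omega.NOThreeL.Basic
open Cfsg.Agent.Omega.NO3b.EZero (NotFF cent_symm)
open Cfsg.Agent.Omega.FFThm (ElemM OffM NoOverM ConclM)
open Cfsg.Agent.Omega.NOThreeL.Star

universe u

variable {G : Type u} [Group G] [Finite G] {S : Sylow 2 G}

/-- **THEOREM NF.** -/
theorem nf (h : Ctx G) (hF : Full (S : Subgroup G)) (D : DataZ (S : Subgroup G))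
    (hrp : ∀ P : Subgroup G, IsParS (S : Subgroup G) P →
      (∃ A : Subgroup G, A ≤ P ∧ OffM (zl (S : Subgroup G) P) A) → RP (S : Subgroup G) P) :
    NotFF (zl (S : Subgroup G) (YS (S : Subgroup G))) := by
  by_contra hn
  have hSY : (S : Subgroup G) ≤ YS (S : Subgroup G) := S_le_YS h hF
  have hs : Sit S := {
    hc := h.char2
    hm := D.noff
    SY := hSY
    cz := D.cz
    no := fun P hP hA => (StarEnd.stmtM G (S : Subgroup G) P (MinSimple.EmptyTI.syl_of_le hP.le) hP.toIsMinPar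
      (hP.isLoc.char2 S h.char2) hA).1
    rp := hrp }
  obtain ⟨P, A, hP, hAS, hopt, hoff, -, -, -⟩ := exists_exact StarEnd.stmtM h.char2 D.noff rfl hSY hn
  have m : Mv S P A := ⟨hP, hAS, hopt, hoff.ne⟩
  refine false_of h hF D.toData hP fun P' hP' p' hp' => ?_
  obtain ⟨z, hz, hz1⟩ : ∃ z ∈ zc (S : Subgroup G), z ≠ 1 := by
    have h1 := MinSimple.Basic.zc_ne_bot S.isPGroup' (h.sylow_ne_bot S)
    obtain ⟨a, ha⟩ := Subgroup.ne_bot_iff_exists_ne_one.1 h1
    exact ⟨a, a.2, fun h0 => ha (Subtype.ext h0)⟩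
  have hv : p' * z * p'⁻¹ ∈ zl (S : Subgroup G) P := m.le_line hs hP'
    ((mem_normalizer_iff.1 (MinSimple.VModule.le_normalizer_zl (S : Subgroup G) P' hp') z).1
      (MinSimple.VModule.zc_le_zl _ _ hz))
  obtain ⟨p, hp, he⟩ := m.conj hs hz hz1 (par_norm hP' hp') hv
  refine ⟨p, hp, ?_⟩
  have h2 : p⁻¹ * p' ∈ centralizer ({z} : Set G) := by
    rw [mem_centralizer_singleton_iff]
    calc p⁻¹ * p' * z = p⁻¹ * (p' * z * p'⁻¹) * p' := by group
      _ = z * (p⁻¹ * p') := by rw [he]; group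
  have h3 := RTools.le_normalizer S hz hz1 (fun P1 hP1 hz' => hz1 (by
    have h4 : z ∈ zc (S : Subgroup G) ⊓ centralizer (P1 : Set G) := ⟨hz, mem_centralizer_iff.2 fun x hx =>
      mem_centralizer_singleton_iff.1 (hz' hx)⟩
    rwa [D.cz P1 hP1, mem_bot] at h4)) h2
  have h4 : cj (p⁻¹ * p') (zc (S : Subgroup G)) = zc (S : Subgroup G) := cj_eq_of_mem_normalizer h3
  have h5 := congrArg (cj p) h4
  rw [cj_cj] at h5
  rwa [mul_inv_cancel_left] at h5

end Cfsg.Agent.Omega.NOThreeL.NF
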