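import Cfsg.Agent.Omega.NOThreeL.NF.SymBase
import Cfsg.Agent.Omega.NOThreeL.FourLine

/-!
# THEOREM NF: the interface `RP` for even-subset modules (#17343, helper863)

`rp_of_symKM` : `P ∈ L(S)`, `V_P` of type `S_{2^m+1}^k` (`SymKM`), `C_{V_P}(O²(P)) = 1` imply `RP S P`.
A minimal offender acts as one transposition `(p q)`, `[V, A] = {p, q}`, the points `pts` are the `2^(m-1) k` pairs
`{p, q}` with `(p q)` in `S`, `z ∈ Z#` is the set of all nonzero points.
-/

set_option autoImplicit false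

namespace Cfsg.Agent.Omega.NOThreeL.NF.SymRP

open Subgroup Cfsg Cfsg.Agent.ZN Cfsg.Agent.ZN.ChoiceBase
open Cfsg.Agent.Omega.FFThm (ElemM OffM NoOverM ConclM SymK SymKM ActsSym)
open Cfsg.Agent.Omega.Half (Amb)
open Cfsg.Agent.Omega.Half.SymA
open Cfsg.Agent.Omega.NOThreeL.FourLine (mem_zpowers_iff)
open scoped Classical commutatorElement

universe u

variable {G : Type u} [Group G]

/-! ### Index two -/

theorem rel_le_two {K L : Subgroup G} (h : ∀ a ∈ L, ∀ b ∈ L, a ∉ K → b ∉ K → a * b ∈ K) : K.relIndex L ≤ 2 := by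
  by_cases h1 : L ≤ K
  · rw [relIndex_eq_one.2 h1]; norm_num
  · obtain ⟨a, ha, haK⟩ := SetLike.not_le_iff_exists.1 h1
    refine (Subgroup.index_eq_two_iff.2 ⟨⟨a, ha⟩, fun b => ?_⟩).le
    by_cases hb : b ∈ K.subgroupOf L
    · refine Or.inr ⟨hb, fun h2 => haK ?_⟩
      have h3 := (mul_mem_cancel_left hb).1 h2
      exact h3
    · exact Or.inl ⟨mem_subgroupOf.2 (h _ b.2 _ ha hb haK), hb⟩

theorem mul_inv_mem_of_le_two {K L : Subgroup G} [Finite G] (h : K.relIndex L ≤ 2) {a b : G} (ha : a ∈ L) (hb : b ∈ L)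
    (haK : a ∉ K) (hbK : b ∉ K) : a * b⁻¹ ∈ K := by
  have h1 : K.relIndex L = 2 := by
    have h2 : K.relIndex L ≠ 0 := FiniteIndex.index_ne_zero (H := K.subgroupOf L)
    have h3 : K.relIndex L ≠ 1 := fun h0 => haK (relIndex_eq_one.1 h0 ha)
    omega
  have h2 := (Subgroup.mul_mem_iff_of_index_two (H := K.subgroupOf L) h1 (a := ⟨a, ha⟩) (b := ⟨b, hb⟩⁻¹)).2
    (iff_of_false haK fun h3 => hbK (inv_mem_iff.1 h3))
  exact h2

/-! ### The minimal offender -/

section ad

variable {S : Sylow 2 G} {P V : Subgroup G} {k m : ℕ}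

/-- `A ≤ S` acts as the transposition `(p q)` -/
structure AD (M : SymK (S : Subgroup G) P V ⊥ k m) (A : Subgroup G) (p q : Pt k m) : Prop where
  le : A ≤ (S : Subgroup G)
  sw : Sw M p q
  ex : ∃ b ∈ A, Mv M b (Equiv.swap p q)
  all : ∀ a ∈ A, a ∈ centralizer (V : Set G) ∨ Mv M a (Equiv.swap p q)

variable [Finite G]

/-- a minimal offender acts as one transposition -/
theorem exists_ad (M : SymKM (S : Subgroup G) P V ⊥ k m) (hA : Amb (S : Subgroup G) P V) (hm : 1 ≤ m)
    {A : Subgroup G} (h : MinOffM V (S : Subgroup G) A) :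
    (∃ p q, AD M.toSymK A p q) ∧ (centralizer (V : Set G)).relIndex A = 2 := by
  set N := M.toSymK with hN
  obtain ⟨-, hoff⟩ := M.offM A h.le h.off
  have hAP : A ≤ P := h.le.trans hA.TH
  -- a transposition
  obtain ⟨p, q, hpq, hpq1, b, hb, hπ⟩ : ∃ p q : Pt k m, p ≠ q ∧ p.1 = q.1 ∧ ∃ b ∈ A, Mv N b (Equiv.swap p q) := by
    by_contra hcon
    apply h.off.ne
    intro a ha
    obtain ⟨τ, hτ, hb⟩ := hoff a ha
    rw [mem_cent_iff hA (hAP ha) hm (mv_pm N hτ)]
    ext1 ⟨i, x⟩
    by_contra hne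
    have hix : τ i x ≠ x := fun h0 => hne (Prod.ext rfl h0)
    obtain ⟨-, b, hbA, hb⟩ := hb i x hix
    have h1 := mv_pm N hb
    have h2 := pm_swap (k := k) (m := m) (p := (i, x)) (q := (i, τ i x)) rfl
    change pm 1 (Function.update 1 i (Equiv.swap x (τ i x))) = _ at h2
    rw [h2] at h1
    exact hcon ⟨(i, x), (i, τ i x), fun h0 => hix (congrArg Prod.snd h0).symm, rfl, b, hbA, h1⟩
  have hbP : b ∈ P := hAP hb
  have hsw : Sw N p q := ⟨hpq, hpq1, b, h.le hb, hπ⟩
  have hbn : b ∉ centralizer (V : Set G) := fun h0 => by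
    rw [mem_cent_iff hA hbP hm hπ] at h0
    exact hpq (Equiv.swap_eq_one_iff.1 h0)
  -- `⟨b⟩` is an offender
  have hb2 : b ^ 2 ∈ centralizer (V : Set G) := h.off.sq b hb
  have hz : ∀ x ∈ zpowers b, x ∈ centralizer (V : Set G) ∨ x * b ∈ centralizer (V : Set G) := by
    rintro x ⟨n, rfl⟩
    have key : ∀ j : ℤ, b ^ (2 * j) ∈ centralizer (V : Set G) := fun j => by
      rw [zpow_mul]
      exact zpow_mem (by exact_mod_cast hb2) j
    rcases Int.even_or_odd n with ⟨j, hj⟩ | ⟨j, hj⟩
    · left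
      have : n = 2 * j := by omega
      simp only [this]
      exact key j
    · right
      have : b ^ n * b = b ^ (2 * (j + 1)) := by rw [← zpow_add_one, hj]; congr 1; ring
      simp only [this]
      exact key _
  have hrB : (centralizer (V : Set G)).relIndex (zpowers b) ≤ 2 := by
    refine rel_le_two fun x hx y hy hxn hyn => ?_
    have h1 := (hz x hx).resolve_left hxn
    have h2 := (hz y hy).resolve_left hyn
    have hcm : b * y = y * b := by
      obtain ⟨j, rfl⟩ := hy
      exact (Commute.self_zpow b j)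
    have e : x * y = (x * b) * (y * b) * (b ^ 2)⁻¹ := by
      have : x * b * (y * b) = x * (b * y) * b := by group
      rw [this, hcm, pow_two]; group
    rw [e]
    exact mul_mem (mul_mem h1 h2) (inv_mem hb2)
  have hsub : zpowers b ≤ A := zpowers_le.2 hb
  have hBne : ¬ zpowers b ≤ centralizer (V : Set G) := fun h0 => hbn (h0 (mem_zpowers b))
  have hoffB : OffM V (zpowers b) := by
    refine ⟨⟨fun a ha => h.off.sq a (hsub ha), fun a ha c hc => h.off.comm a (hsub ha) c (hsub hc)⟩, hBne, ?_⟩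
    rw [FFThm.relIndex_le_iff]
    have h1 : (centralizer ((zpowers b : Subgroup G) : Set G)).relIndex V ≤ 2 := by
      have hiff : ∀ v ∈ V, v ∈ centralizer ((zpowers b : Subgroup G) : Set G) ↔ E N v p = E N v q := by
        intro v hv
        constructor
        · intro h1
          refine eq_of_comm hπ hv ?_
          rw [mem_centralizer_iff.1 h1 b (mem_zpowers b), mul_inv_cancel_right]
        · intro h1
          have h2 := comm_of_eq hA hbP hπ hv h1
          rw [mul_inv_eq_iff_eq_mul] at h2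
          rw [← zpowers_le, le_centralizer_iff, zpowers_le, mem_centralizer_iff]
          rintro _ ⟨j, rfl⟩
          have h3 : Commute b v := h2
          exact (h3.zpow_right j).eq.symm
      refine rel_le_two fun v hv w hw h1 h2 => ?_
      rw [hiff v hv] at h1
      rw [hiff w hw] at h2
      rw [hiff _ (mul_mem hv hw), E_mul N hv hw, E_mul N hv hw]
      revert h1 h2
      generalize E N v p = a
      generalize E N v q = b
      generalize E N w p = c
      generalize E N w q = d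
      revert a b c d
      decide
    have h2 : 2 ≤ (centralizer (V : Set G)).relIndex (zpowers b) := by
      have h2 : (centralizer (V : Set G)).relIndex (zpowers b) ≠ 0 :=
        FiniteIndex.index_ne_zero (H := (centralizer (V : Set G)).subgroupOf (zpowers b))
      have h3 : (centralizer (V : Set G)).relIndex (zpowers b) ≠ 1 := fun h0 => hBne (relIndex_eq_one.1 h0)
      omega
    exact h1.trans h2
  have hrA : (centralizer (V : Set G)).relIndex A ≤ 2 := (h.min _ hsub hoffB).trans hrB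
  refine ⟨⟨p, q, h.le, hsw, ⟨b, hb, hπ⟩, fun a ha => ?_⟩, ?_⟩
  · by_cases hac : a ∈ centralizer (V : Set G)
    · exact Or.inl hac
    · right
      have h1 := mul_inv_mem_of_le_two hrA ha hb hac hbn
      have h2 : Mv N (a * b⁻¹) 1 := by
        intro v hv r
        rw [← mem_centralizer_iff.1 h1 v hv, mul_inv_cancel_right]
        rfl
      have h3 := h2.mul hA hπ hbP
      rwa [inv_mul_cancel_right, one_mul] at h3
  · have h2 : (centralizer (V : Set G)).relIndex A ≠ 0 :=
      FiniteIndex.index_ne_zero (H := (centralizer (V : Set G)).subgroupOf A)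
    have h3 : (centralizer (V : Set G)).relIndex A ≠ 1 := fun h0 => h.off.ne (relIndex_eq_one.1 h0)
    omega

variable {M : SymK (S : Subgroup G) P V ⊥ k m} (hA : Amb (S : Subgroup G) P V) (hm : 1 ≤ m)
  {A : Subgroup G} {p q : Pt k m}
include hA

omit [Finite G] in
/-- `[V, A] = {p, q}` -/
theorem AD.comm_eq (hm : 1 ≤ m) (h : AD M A p q) {c : G} (hc : IsC M c p q) : ⁅V, A⁆ = zpowers c := by
  have hAP : A ≤ P := h.le.trans hA.TH
  apply le_antisymm
  · rw [commutator_le]
    intro w hw a ha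
    rcases h.all a ha with h1 | h1
    · have h2 : ⁅w, a⁆ = 1 := by
        rw [commutatorElement_eq_one_iff_mul_comm]
        exact mem_centralizer_iff.1 h1 w hw
      rw [h2]
      exact one_mem _
    · rcases commutator_eq hA h.sw.1 (hAP ha) h1 hw hc with h2 | h2
      · rw [h2]; exact one_mem _
      · rw [h2]; exact mem_zpowers c
  · rw [zpowers_le]
    obtain ⟨b, hb, hπ⟩ := h.ex
    obtain ⟨w, hw, h1, h2⟩ := sep M hm h.sw.1
    have h3 : ⁅w, b⁆ = c := by
      rcases commutator_eq hA h.sw.1 (hAP hb) hπ hw hc with h3 | h3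
      · exfalso
        rw [commutatorElement_eq_one_iff_mul_comm] at h3
        have h4 : E M w p = E M w q := eq_of_comm hπ hw (by rw [← h3, mul_inv_cancel_right])
        rw [h1, h2] at h4
        exact one_ne_zero h4
      · exact h3
    rw [← h3]
    exact commutator_mem_commutator hw hb

omit hA [Finite G] in
theorem cj_zpowers (s c : G) : cj s (zpowers c) = zpowers (s * c * s⁻¹) := by
  rw [cj, MonoidHom.map_zpowers]
  rfl

/-- the points are the pairs `{a, b}` with `(a b)` in `S` -/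
theorem AD.mem_pts (hm : 1 ≤ m) (h : AD M A p q) {r : Subgroup G} : r ∈ pts V (S : Subgroup G) A ↔
    ∃ a b c, Sw M a b ∧ IsC M c a b ∧ r = zpowers c := by
  obtain ⟨c₀, hc₀⟩ := exists_isC (M := M) h.sw.2.1
  have hcm := h.comm_eq hA hm hc₀
  constructor
  · rintro ⟨s, hs, rfl⟩
    obtain ⟨π, hπ, -⟩ := exists_mv (M := M) (hA.TH hs)
    refine ⟨π p, π q, s * c₀ * s⁻¹, h.sw.conj hA hm hs hπ, hc₀.conj hA (hA.TH hs) hπ, ?_⟩
    rw [hcm, cj_zpowers]
  · rintro ⟨a, b, c, hsw, hc, rfl⟩
    obtain ⟨s, hs, π, hπ, h1, h2⟩ := exists_conj hA hm h.sw hsw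
    refine ⟨s, hs, ?_⟩
    have h3 := hc₀.conj hA (hA.TH hs) hπ
    rw [h1, h2] at h3
    rw [hcm, cj_zpowers, hc.eq h3]

/-- `R = ⟨points⟩` -/
theorem AD.mem_R (hm : 1 ≤ m) (h : AD M A p q) {v : G} : v ∈ sSup (pts V (S : Subgroup G) A) ↔
    v ∈ V ∧ (∀ a b, Sw M a b → E M v a = E M v b) ∧ ∀ a : Pt k m, a.2 = 0 → E M v a = 0 := by
  constructor
  · intro hv
    let K : Subgroup G :=
      { carrier := {v | v ∈ V ∧ (∀ a b, Sw M a b → E M v a = E M v b) ∧ ∀ a : Pt k m, a.2 = 0 → E M v a = 0}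
        one_mem' := ⟨one_mem _, fun a b _ => by rw [E_one, E_one], fun a _ => E_one M a⟩
        mul_mem' := by
          rintro x y ⟨hx1, hx2, hx3⟩ ⟨hy1, hy2, hy3⟩
          refine ⟨mul_mem hx1 hy1, fun a b hab => ?_, fun a ha => ?_⟩
          · rw [E_mul M hx1 hy1, E_mul M hx1 hy1, hx2 a b hab, hy2 a b hab]
          · rw [E_mul M hx1 hy1, hx3 a ha, hy3 a ha, add_zero]
        inv_mem' := by
          rintro x ⟨hx1, hx2, hx3⟩
          refine ⟨inv_mem hx1, fun a b hab => ?_, fun a ha => ?_⟩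
          · rw [E_inv M hx1, E_inv M hx1, hx2 a b hab]
          · rw [E_inv M hx1, hx3 a ha] }
    have h1 : sSup (pts V (S : Subgroup G) A) ≤ K := by
      refine sSup_le fun r hr => ?_
      obtain ⟨a, b, c, hsw, hc, rfl⟩ := (h.mem_pts hA hm).1 hr
      rw [zpowers_le]
      refine ⟨hc.1, fun a' b' hab => ?_, fun a' ha' => ?_⟩
      · by_cases h1 : a' = a
        · subst h1
          rw [hab.uniq hA S.isPGroup' hm hsw, hc.left hsw.1, hc.right hsw.1]
        by_cases h2 : a' = b
        · subst h2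
          rw [hab.uniq hA S.isPGroup' hm hsw.symm, hc.left hsw.1, hc.right hsw.1]
        have h3 : b' ≠ a := by
          rintro rfl
          exact h2 (hab.symm.uniq hA S.isPGroup' hm hsw)
        have h4 : b' ≠ b := by
          rintro rfl
          exact h1 (hab.symm.uniq hA S.isPGroup' hm hsw.symm)
        rw [hc.zero h1 h2, hc.zero h3 h4]
      · refine hc.zero ?_ ?_
        · rintro rfl; exact hsw.nz hA hm ha'
        · rintro rfl; exact hsw.symm.nz hA hm ha'
    exact h1 hv
  · rintro ⟨hv, h1, h2⟩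
    refine mem_of_inv hv h1 (fun a ha => ?_) fun a b c hab hac => hab.uniq hA S.isPGroup' hm hac
    have ha2 : a.2 ≠ 0 := fun h0 => ha (h2 a h0)
    obtain ⟨b, hb⟩ := exists_sw hA hm h.sw ha2
    obtain ⟨c, hc⟩ := exists_isC (M := M) hb.2.1
    have h3 : zpowers c ≤ sSup (pts V (S : Subgroup G) A) := le_sSup ((h.mem_pts hA hm).2 ⟨a, b, c, hb, hc, rfl⟩)
    exact ⟨b, c, hb, hc, h3 (mem_zpowers c)⟩

omit [Finite G] in
theorem sq_one {v : G} (hv : v ∈ V) : v * v = 1 := by
  have := hA.sq v hv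
  rwa [pow_two] at this

/-- the vectors of `R` without the point `{a, b}` -/
theorem AD.mem_diff (hm : 1 ≤ m) (h : AD M A p q) {v : G} {a b : Pt k m} {c : G} (hab : Sw M a b)
    (hc : IsC M c a b) : v ∈ sSup (pts V (S : Subgroup G) A \ {zpowers c}) ↔
      v ∈ sSup (pts V (S : Subgroup G) A) ∧ E M v a = 0 := by
  constructor
  · intro hv
    have h0 : sSup (pts V (S : Subgroup G) A \ {zpowers c}) ≤ sSup (pts V (S : Subgroup G) A) :=
      sSup_le_sSup Set.sdiff_subset
    refine ⟨h0 hv, ?_⟩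
    let K : Subgroup G :=
      { carrier := {v | v ∈ V ∧ E M v a = 0}
        one_mem' := ⟨one_mem _, E_one M a⟩
        mul_mem' := by
          rintro x y ⟨hx1, hx2⟩ ⟨hy1, hy2⟩
          exact ⟨mul_mem hx1 hy1, by rw [E_mul M hx1 hy1, hx2, hy2, add_zero]⟩
        inv_mem' := by
          rintro x ⟨hx1, hx2⟩
          exact ⟨inv_mem hx1, by rw [E_inv M hx1, hx2]⟩ }
    have h1 : sSup (pts V (S : Subgroup G) A \ {zpowers c}) ≤ K := by
      refine sSup_le fun r hr => ?_
      obtain ⟨a', b', c', hsw, hc', rfl⟩ := (h.mem_pts hA hm).1 hr.1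
      rw [zpowers_le]
      refine ⟨hc'.1, hc'.zero ?_ ?_⟩
      · rintro rfl
        apply hr.2
        have h2 := hsw.uniq hA S.isPGroup' hm hab
        subst h2
        rw [Set.mem_singleton_iff, hc'.eq hc]
      · rintro rfl
        apply hr.2
        have h2 := hsw.symm.uniq hA S.isPGroup' hm hab
        subst h2
        rw [Set.mem_singleton_iff, hc'.eq hc.symm]
    exact (h1 hv).2
  · rintro ⟨hv, h1⟩
    obtain ⟨hvV, h2, h3⟩ := (h.mem_R hA hm).1 hv
    refine mem_of_inv hvV h2 (fun r hr => ?_) fun a b c hab hac => hab.uniq hA S.isPGroup' hm hac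
    have hr2 : r.2 ≠ 0 := fun h0 => hr (h3 r h0)
    obtain ⟨t, ht⟩ := exists_sw hA hm h.sw hr2
    obtain ⟨d, hd⟩ := exists_isC (M := M) ht.2.1
    have h4 : zpowers d ≤ sSup (pts V (S : Subgroup G) A \ {zpowers c}) := by
      refine le_sSup ⟨(h.mem_pts hA hm).2 ⟨r, t, d, ht, hd, rfl⟩, fun h5 => ?_⟩
      rw [Set.mem_singleton_iff] at h5
      have h6 : d ∈ zpowers c := by rw [← h5]; exact mem_zpowers d
      rcases (mem_zpowers_iff (sq_one hA hc.1)).1 h6 with h7 | h7
      · exact hd.ne_one ht.1 h7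
      · rw [h7] at hd
        have h8 : E M c r = 1 := hd.left ht.1
        by_cases e1 : r = a
        · rw [e1] at hr; exact hr h1
        by_cases e2 : r = b
        · rw [e2] at hr; exact hr (by rw [← h2 a b hab, h1])
        rw [hc.zero e1 e2] at h8
        exact zero_ne_one h8
    exact ⟨t, d, ht, hd, h4 (mem_zpowers d)⟩

end ad

end Cfsg.Agent.Omega.NOThreeL.NF.SymRP
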