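import Cfsg.Agent.Omega.Half.SymPts
import Cfsg.Agent.Omega.NOThreeL.NF.Defs

/-!
# THEOREM NF: even-subset modules, the transpositions in `S`

`M : SymK S P V ⊥ k m`, `S` a Sylow 2-subgroup of `P`, notation of `Half/SymPts.lean` (`Pt k m` the points, `E M v` the
characteristic function of `v`, `Mv M g π` : `g` acts on the points by `π`).

* `IsC M c p q` : `c ∈ V` is the pair `{p, q}`;
* `Sw M p q` : some element of `S` acts as the transposition `(p q)`; `Sw.uniq`, `Sw.conj`, `exists_sw`;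
* `mem_of_inv` : a vector which is a union of pairs `{p, q}` with `Sw p q` is in the group generated by them;
* `comm_of_eq` : `v` and a transposition `(p q)` commute if `E v p = E v q`.
-/

set_option autoImplicit false

namespace Cfsg.Agent.Omega.NOThreeL.NF.SymRP

open Subgroup Cfsg Cfsg.Agent.ZN Cfsg.Agent.ZN.ChoiceBase
open Cfsg.Agent.Omega.FFThm (ElemM OffM NoOverM ConclM SymK SymKM ActsSym)
open Cfsg.Agent.Omega.Half (Amb)
open Cfsg.Agent.Omega.Half.SymA
open scoped Classical commutatorElement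

universe u

variable {G : Type u} [Group G]

section base

variable {T H V : Subgroup G} {k m : ℕ} (M : SymK T H V ⊥ k m)

/-- `c` is the pair `{p, q}`. -/
def IsC (c : G) (p q : Pt k m) : Prop :=
  c ∈ V ∧ ∀ r, E M c r = (if r = p then 1 else 0) + (if r = q then 1 else 0)

/-- `T` contains the transposition `(p q)`. -/
def Sw (p q : Pt k m) : Prop := p ≠ q ∧ p.1 = q.1 ∧ ∃ b ∈ T, Mv M b (Equiv.swap p q)

variable {M}

theorem exists_isC {p q : Pt k m} (h : p.1 = q.1) : ∃ c, IsC M c p q := by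
  obtain ⟨c, hc, h1⟩ := exists_pair M h
  exact ⟨c, hc, h1⟩

theorem IsC.eq {c d : G} {p q : Pt k m} (h : IsC M c p q) (h' : IsC M d p q) : c = d :=
  inj M h.1 h'.1 fun r => by rw [h.2, h'.2]

theorem IsC.left {c : G} {p q : Pt k m} (h : IsC M c p q) (hpq : p ≠ q) : E M c p = 1 := by
  rw [h.2, if_pos rfl, if_neg hpq, add_zero]

theorem IsC.right {c : G} {p q : Pt k m} (h : IsC M c p q) (hpq : p ≠ q) : E M c q = 1 := by
  rw [h.2, if_neg hpq.symm, if_pos rfl, zero_add]

theorem IsC.zero {c : G} {p q r : Pt k m} (h : IsC M c p q) (h1 : r ≠ p) (h2 : r ≠ q) : E M c r = 0 := by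
  rw [h.2, if_neg h1, if_neg h2, add_zero]

theorem IsC.symm {c : G} {p q : Pt k m} (h : IsC M c p q) : IsC M c q p :=
  ⟨h.1, fun r => by rw [h.2, add_comm]⟩

theorem IsC.ne_one {c : G} {p q : Pt k m} (h : IsC M c p q) (hpq : p ≠ q) : c ≠ 1 := by
  rintro rfl
  have h1 := h.left hpq
  rw [E_one] at h1
  exact zero_ne_one h1

theorem Sw.symm {p q : Pt k m} (h : Sw M p q) : Sw M q p := by
  obtain ⟨h1, h2, b, hb, h3⟩ := h
  exact ⟨h1.symm, h2.symm, b, hb, by rwa [Equiv.swap_comm]⟩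

section amb

variable (hA : Amb T H V)
include hA

theorem IsC.conj {c g : G} {p q : Pt k m} {π : Equiv.Perm (Pt k m)} (h : IsC M c p q) (hg : g ∈ H)
    (hπ : Mv M g π) : IsC M (g * c * g⁻¹) (π p) (π q) := by
  refine ⟨hA.conj_mem hg h.1, fun r => ?_⟩
  have h1 := hπ c h.1 (π⁻¹ r)
  rw [show π (π⁻¹ r) = r from π.apply_symm_apply r, h.2] at h1
  rw [h1]
  have e : ∀ a : Pt k m, (π⁻¹ r = a) = (r = π a) := fun a => by
    rw [eq_iff_iff, Equiv.Perm.inv_eq_iff_eq]
  simp only [e]

/-- an element which acts trivially on the points centralises `V` -/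
theorem mem_cent_iff {g : G} (hg : g ∈ H) (hm : 1 ≤ m) {π : Equiv.Perm (Pt k m)} (hπ : Mv M g π) :
    g ∈ centralizer (V : Set G) ↔ π = 1 := by
  constructor
  · intro h
    refine hπ.unique hA hm ?_ hg
    intro v hv p
    have h1 : g * v * g⁻¹ = v := by
      rw [← mem_centralizer_iff.1 h v hv, mul_inv_cancel_right]
    rw [h1]
    rfl
  · rintro rfl
    rw [mem_centralizer_iff]
    intro v hv
    have h1 : g * v * g⁻¹ = v := inj M (hA.conj_mem hg hv) hv fun p => hπ v hv p
    rw [mul_inv_eq_iff_eq_mul] at h1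
    exact h1.symm

/-- `v` and a transposition -/
theorem comm_of_eq {b v : G} {p q : Pt k m} (hb : b ∈ H) (hπ : Mv M b (Equiv.swap p q)) (hv : v ∈ V)
    (h : E M v p = E M v q) : b * v * b⁻¹ = v := by
  refine inj M (hA.conj_mem hb hv) hv fun r => ?_
  have h1 := hπ v hv (Equiv.swap p q r)
  rw [Equiv.swap_apply_self] at h1
  rw [h1]
  rcases eq_or_ne r p with rfl | hrp
  · rw [Equiv.swap_apply_left, h]
  rcases eq_or_ne r q with rfl | hrq
  · rw [Equiv.swap_apply_right, h]
  rw [Equiv.swap_apply_of_ne_of_ne hrp hrq]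

omit hA in
theorem eq_of_comm {b v : G} {p q : Pt k m} (hπ : Mv M b (Equiv.swap p q)) (hv : v ∈ V)
    (h : b * v * b⁻¹ = v) : E M v p = E M v q := by
  have h1 := hπ v hv p
  rw [h, Equiv.swap_apply_left] at h1
  exact h1.symm

/-- the commutator with a transposition -/
theorem commutator_eq {b w c : G} {p q : Pt k m} (hpq : p ≠ q) (hb : b ∈ H) (hπ : Mv M b (Equiv.swap p q))
    (hw : w ∈ V) (hc : IsC M c p q) : ⁅w, b⁆ = 1 ∨ ⁅w, b⁆ = c := by
  have e : ⁅w, b⁆ = w * (b * w⁻¹ * b⁻¹) := by rw [commutatorElement_def]; group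
  by_cases h : E M w p = E M w q
  · left
    rw [e, comm_of_eq hA hb hπ (inv_mem hw) (by rw [E_inv M hw, E_inv M hw, h]), mul_inv_cancel]
  · right
    rw [e]
    have h2 : b * w⁻¹ * b⁻¹ ∈ V := hA.conj_mem hb (inv_mem hw)
    refine inj M (mul_mem hw h2) hc.1 fun r => ?_
    rw [E_mul M hw h2]
    have h1 := hπ w⁻¹ (inv_mem hw) (Equiv.swap p q r)
    rw [Equiv.swap_apply_self, E_inv M hw] at h1
    rw [h1, hc.2]
    have h3 : E M w p + E M w q = 1 := by
      revert h
      generalize E M w p = a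
      generalize E M w q = b
      revert a b
      decide
    rcases eq_or_ne r p with rfl | hrp
    · rw [Equiv.swap_apply_left, if_pos rfl, if_neg hpq, h3, add_zero]
    rcases eq_or_ne r q with rfl | hrq
    · rw [Equiv.swap_apply_right, if_neg hpq.symm, if_pos rfl, add_comm, h3, zero_add]
    rw [Equiv.swap_apply_of_ne_of_ne hrp hrq, if_neg hrp, if_neg hrq, add_zero]
    exact CharTwo.add_self_eq_zero _

theorem Sw.nz (hm : 1 ≤ m) {p q : Pt k m} (h : Sw M p q) : p.2 ≠ 0 := by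
  obtain ⟨h1, h2, b, hb, h3⟩ := h
  intro hp
  have h4 := h3.snd hA hm hb (p := p)
  rw [Equiv.swap_apply_left] at h4
  exact h1 (Prod.ext h2 (hp.trans (h4.2 hp).symm))

theorem Sw.conj (hm : 1 ≤ m) {p q : Pt k m} (h : Sw M p q) {s : G} {π : Equiv.Perm (Pt k m)} (hs : s ∈ T)
    (hπ : Mv M s π) : Sw M (π p) (π q) := by
  obtain ⟨h1, h2, b, hb, h3⟩ := h
  refine ⟨fun h => h1 (π.injective h), hπ.fst hA hm (hA.TH hs) h2, s * b * s⁻¹,
    mul_mem (mul_mem hs hb) (inv_mem hs), ?_⟩
  have h4 := hπ.conj hA (hA.TH hs) h3 (hA.TH hb)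
  rwa [← Equiv.swap_apply_apply] at h4

/-- two transpositions in `T` are equal or disjoint -/
theorem Sw.uniq (hT : IsPGroup 2 T) (hm : 1 ≤ m) {p q r : Pt k m} (h : Sw M p q) (h' : Sw M p r) : q = r := by
  by_contra hne
  obtain ⟨h1, -, b, hb, h3⟩ := h
  obtain ⟨h1', -, c, hc, h3'⟩ := h'
  have h4 := h3.mul hA h3' (hA.TH hc)
  obtain ⟨a, ha⟩ := hT ⟨b * c, mul_mem hb hc⟩
  have ha' : (b * c) ^ 2 ^ a = 1 := congrArg Subtype.val ha
  have h5 := h4.pow hA (mul_mem (hA.TH hb) (hA.TH hc)) (2 ^ a)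
  rw [ha'] at h5
  have h6 := h5.unique hA hm (Mv_one M) (one_mem _)
  have h7 := (Equiv.Perm.isThreeCycle_swap_mul_swap_same h1 h1' hne).orderOf
  have h8 := orderOf_dvd_of_pow_eq_one h6
  rw [h7] at h8
  have h9 := (Nat.Prime.dvd_of_dvd_pow Nat.prime_three h8)
  omega

end amb

/-- a vector which is a union of pairs in `K` is in `K` -/
theorem mem_of_inv {K : Subgroup G} {v : G} (hv : v ∈ V) (hinv : ∀ p q, Sw M p q → E M v p = E M v q)
    (hK : ∀ p, E M v p ≠ 0 → ∃ q c, Sw M p q ∧ IsC M c p q ∧ c ∈ K) (huniq : ∀ p q r, Sw M p q → Sw M p r → q = r) :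
    v ∈ K := by
  obtain ⟨n, hn⟩ : ∃ n, (Finset.univ.filter fun p => E M v p ≠ 0).card = n := ⟨_, rfl⟩
  induction n using Nat.strong_induction_on generalizing v with
  | _ n ih =>
    by_cases h0 : ∀ p, E M v p = 0
    · rw [eq_one M hv h0]; exact one_mem _
    push Not at h0
    obtain ⟨p, hp⟩ := h0
    obtain ⟨q, c, hsw, hc, hcK⟩ := hK p hp
    have hvc : v * c ∈ V := mul_mem hv hc.1
    have hE : ∀ r, E M (v * c) r = E M v r + E M c r := fun r => E_mul M hv hc.1 r
    have hq : E M v q = 1 := by rw [← hinv p q hsw]; exact zmod2_ne.1 hp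
    have e1 : E M (v * c) p = 0 := by
      rw [hE, hc.left hsw.1, zmod2_ne.1 hp]; rfl
    have e2 : E M (v * c) q = 0 := by
      rw [hE, hc.right hsw.1, hq]; rfl
    have e3 : ∀ r, r ≠ p → r ≠ q → E M (v * c) r = E M v r := fun r h1 h2 => by
      rw [hE, hc.zero h1 h2, add_zero]
    have hsub : (Finset.univ.filter fun r => E M (v * c) r ≠ 0) ⊂ Finset.univ.filter fun r => E M v r ≠ 0 := by
      rw [Finset.ssubset_iff_of_subset]
      · exact ⟨p, by simpa using hp, by simp [e1]⟩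
      · intro r hr
        rw [Finset.mem_filter] at hr ⊢
        refine ⟨Finset.mem_univ _, ?_⟩
        have h1 : r ≠ p := by rintro rfl; exact hr.2 e1
        have h2 : r ≠ q := by rintro rfl; exact hr.2 e2
        rw [← e3 r h1 h2]
        exact hr.2
    have hlt := Finset.card_lt_card hsub
    rw [hn] at hlt
    have h3 : v * c ∈ K := by
      refine ih _ hlt hvc (fun a b hab => ?_) (fun r hr => ?_) rfl
      · by_cases ha : a = p
        · subst ha
          rw [huniq _ _ _ hab hsw, e1, e2]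
        by_cases ha' : a = q
        · subst ha'
          rw [huniq _ _ _ hab hsw.symm, e1, e2]
        have hb : b ≠ p := by
          rintro rfl
          exact ha' (huniq _ _ _ hab.symm hsw)
        have hb' : b ≠ q := by
          rintro rfl
          exact ha (huniq _ _ _ hab.symm hsw.symm)
        rw [e3 a ha ha', e3 b hb hb', hinv a b hab]
      · have h1 : r ≠ p := by rintro rfl; exact hr e1
        have h2 : r ≠ q := by rintro rfl; exact hr e2
        rw [e3 r h1 h2] at hr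
        exact hK r hr
    have h4 := mul_mem h3 (inv_mem hcK)
    rwa [mul_inv_cancel_right] at h4

end base

section syl

variable [Finite G] {S : Sylow 2 G} {P V : Subgroup G} {k m : ℕ} {M : SymK (S : Subgroup G) P V ⊥ k m}
  (hA : Amb (S : Subgroup G) P V)
include hA

/-- if there is a transposition in `S`, every nonzero point is in one -/
theorem exists_sw (hm : 1 ≤ m) {p₀ q₀ : Pt k m} (h : Sw M p₀ q₀) {p : Pt k m} (hp : p.2 ≠ 0) :
    ∃ q, Sw M p q := by
  obtain ⟨t, ht, π, hπ, h1⟩ := trans_pts S hA hm (h.nz hA hm) hp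
  have h2 := h.conj hA hm ht hπ
  rw [h1] at h2
  exact ⟨_, h2⟩

/-- any two transpositions in `S` are conjugate -/
theorem exists_conj (hm : 1 ≤ m) {p q p' q' : Pt k m} (h : Sw M p q) (h' : Sw M p' q') :
    ∃ s ∈ (S : Subgroup G), ∃ π, Mv M s π ∧ π p = p' ∧ π q = q' := by
  obtain ⟨t, ht, π, hπ, h1⟩ := trans_pts S hA hm (h.nz hA hm) (h'.nz hA hm)
  have h2 := h.conj hA hm ht hπ
  rw [h1] at h2
  exact ⟨t, ht, π, hπ, h1, h2.uniq hA S.isPGroup' hm h'⟩

/-- a central involution of `S` is constant on the nonzero points -/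
theorem E_zc (hm : 1 ≤ m) {z : G} (hz : z ∈ zc (S : Subgroup G)) (hz1 : z ≠ 1) (p : Pt k m) :
    E M z p = if p.2 = 0 then 0 else 1 := by
  have hzV : z ∈ V := hA.zc hz
  have hconst : ∀ p q : Pt k m, p.2 ≠ 0 → q.2 ≠ 0 → E M z p = E M z q := by
    intro p q hp hq
    obtain ⟨t, ht, π, hπ, h1⟩ := trans_pts S hA hm hp hq
    have h2 := hπ z hzV p
    have h3 : t * z * t⁻¹ = z := by
      rw [(MinSimple.VModule.mem_zc.1 hz).2.1 t ht, mul_inv_cancel_right]
    rw [h3, h1] at h2
    exact h2.symm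
  have hzero : ∀ p : Pt k m, p.2 = 0 → E M z p = 0 := by
    intro p hp
    have h1 := even M hzV p.1
    rw [Fin.sum_univ_succ] at h1
    have h2 : ∑ x : Fin (2 ^ m), E M z (p.1, x.succ) = 0 := by
      have h3 : ∀ x ∈ (Finset.univ : Finset (Fin (2 ^ m))), E M z (p.1, x.succ) =
          E M z (p.1, Fin.succ (0 : Fin (2 ^ m))) := fun x _ =>
        hconst _ _ (Fin.succ_ne_zero x) (Fin.succ_ne_zero (0 : Fin (2 ^ m)))
      rw [Finset.sum_congr rfl h3, Finset.sum_const, Finset.card_univ, Fintype.card_fin, nsmul_eq_mul]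
      have h4 : ((2 ^ m : ℕ) : ZMod 2) = 0 := by
        rw [ZMod.natCast_eq_zero_iff]
        exact dvd_pow_self 2 (by omega)
      rw [h4, zero_mul]
    rw [h2, add_zero] at h1
    have h5 : p = (p.1, 0) := Prod.ext rfl hp
    rw [h5]
    exact h1
  by_cases hp : p.2 = 0
  · rw [if_pos hp, hzero p hp]
  · rw [if_neg hp]
    by_contra hne
    apply hz1
    refine eq_one M hzV fun r => ?_
    by_cases hr : r.2 = 0
    · exact hzero r hr
    · rw [hconst r p hr hp]
      rcases zmod2 (E M z p) with h | h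
      · exact h
      · exact absurd h hne

end syl

end Cfsg.Agent.Omega.NOThreeL.NF.SymRP
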