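import Cfsg.Agent.Omega.Half.SymPts
import Cfsg.Agent.Omega.NOThreeL.NF.Defs

/-!
# THEOREM NF (#17343), even-subset modules: the parts without offenders

`M : SymK T H V ⊥ k m`, `E M v` = the characteristic function of `v`.

* `le_of_full` : an `H`-invariant subgroup which contains the element with support "all nonzero points" contains `V`;
* `exists_gen` : `2^m k` conjugates of a transposition generate, modulo `C_H(V)`, all of its conjugates and have no
  common fixed vector.
-/

set_option autoImplicit false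

namespace Cfsg.Agent.Omega.NOThreeL.NF.SymG

open Subgroup Cfsg Cfsg.Agent.ZN Cfsg.Agent.Omega.FFThm Cfsg.Agent.Omega.MinPar
open Cfsg.Agent.ZN.ChoiceBase hiding mem_zc
open Cfsg.Agent.Omega.Half (Amb)
open Cfsg.Agent.Omega.Half.SymA
open scoped Classical

universe u

variable {G : Type u} [Group G] {T H V : Subgroup G} {k m : ℕ}

section

variable {M : SymK T H V ⊥ k m} (hA : Amb T H V)

/-- the characteristic function of the pair `{p, q}` -/
def pr (p q r : Pt k m) : ZMod 2 := (if r = p then 1 else 0) + (if r = q then 1 else 0)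

theorem E_conj {g v : G} {π : Equiv.Perm (Pt k m)} (hπ : Mv M g π) (hv : v ∈ V) (p : Pt k m) :
    E M (g * v * g⁻¹) p = E M v (π⁻¹ p) := by
  have h1 := hπ v hv (π⁻¹ p)
  have h2 : π (π⁻¹ p) = p := π.apply_symm_apply p
  rwa [h2] at h1

include hA

/-- the commutator with a transposition -/
theorem E_comm_swap {g v : G} (hg : g ∈ H) {p q : Pt k m} (hπ : Mv M g (Equiv.swap p q)) (hv : v ∈ V)
    (r : Pt k m) : E M (g * v * g⁻¹ * v) r = (E M v p + E M v q) * pr p q r := by
  rw [E_mul M (hA.conj_mem hg hv) hv, E_conj hπ hv, Equiv.swap_inv, pr]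
  by_cases hp : r = p
  · subst hp
    rw [Equiv.swap_apply_left, if_pos rfl]
    by_cases hq : r = q
    · subst hq
      rw [if_pos rfl, CharTwo.add_self_eq_zero, zero_mul]
    · rw [if_neg hq, add_zero, mul_one, add_comm]
  · by_cases hq : r = q
    · subst hq
      rw [Equiv.swap_apply_right, if_neg hp, if_pos rfl, zero_add, mul_one]
    · rw [Equiv.swap_apply_of_ne_of_ne hp hq, if_neg hp, if_neg hq, add_zero, mul_zero, CharTwo.add_self_eq_zero]

omit hA in
/-- `V` is generated by the pairs `{(i,0), (i,x)}`. -/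
theorem le_of_pairs {D : Subgroup G}
    (h : ∀ v ∈ V, ∀ p : Pt k m, p.2 ≠ 0 → (∀ r, E M v r = pr (p.1, 0) p r) → v ∈ D) : V ≤ D := by
  have key : ∀ n : ℕ, ∀ v ∈ V, (Finset.univ.filter fun p : Pt k m => p.2 ≠ 0 ∧ E M v p ≠ 0).card = n → v ∈ D := by
    intro n
    induction n with
    | zero =>
      intro v hv hn
      have h1 : v = 1 := by
        refine eq_one M hv ?_
        have h2 : ∀ p : Pt k m, p.2 ≠ 0 → E M v p = 0 := by
          intro p hp
          by_contra h3
          have h4 : p ∈ (Finset.univ.filter fun p : Pt k m => p.2 ≠ 0 ∧ E M v p ≠ 0) :=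
            Finset.mem_filter.2 ⟨Finset.mem_univ _, hp, h3⟩
          rw [Finset.card_eq_zero.1 hn] at h4
          exact absurd h4 (Finset.notMem_empty _)
        rintro ⟨i, x⟩
        by_cases hx : x = 0
        · subst hx
          have h3 := even M hv i
          rwa [Finset.sum_eq_single (0 : Fin (2 ^ m + 1)) (fun b _ hb => h2 (i, b) hb)
            (fun h => absurd (Finset.mem_univ _) h)] at h3
        · exact h2 (i, x) hx
      rw [h1]
      exact one_mem D
    | succ n ih =>
      intro v hv hn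
      obtain ⟨p, hp⟩ : (Finset.univ.filter fun p : Pt k m => p.2 ≠ 0 ∧ E M v p ≠ 0).Nonempty :=
        Finset.card_pos.1 (by omega)
      obtain ⟨-, hp0, hpv⟩ := Finset.mem_filter.1 hp
      obtain ⟨w, hw, hwE⟩ := exists_pair M (p := (p.1, 0)) (q := p) rfl
      have hwD : w ∈ D := h w hw p hp0 hwE
      have hvw : E M (v * w) p = 0 := by
        rw [E_mul M hv hw, hwE, if_neg, if_pos rfl, zero_add, zmod2_ne.1 hpv, CharTwo.add_self_eq_zero]
        intro h1
        exact hp0 (congrArg Prod.snd h1)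
      have hvw' : ∀ r : Pt k m, r.2 ≠ 0 → r ≠ p → E M (v * w) r = E M v r := by
        intro r hr hrp
        rw [E_mul M hv hw, hwE, if_neg, if_neg hrp, add_zero, add_zero]
        intro h1
        exact hr (congrArg Prod.snd h1)
      have hcard : (Finset.univ.filter fun r : Pt k m => r.2 ≠ 0 ∧ E M (v * w) r ≠ 0) =
          (Finset.univ.filter fun r : Pt k m => r.2 ≠ 0 ∧ E M v r ≠ 0).erase p := by
        ext r
        simp only [Finset.mem_filter, Finset.mem_univ, true_and, Finset.mem_erase]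
        constructor
        · rintro ⟨h1, h2⟩
          have h3 : r ≠ p := fun h3 => h2 (h3 ▸ hvw)
          exact ⟨h3, h1, by rwa [hvw' r h1 h3] at h2⟩
        · rintro ⟨h1, h2, h3⟩
          exact ⟨h2, by rwa [hvw' r h2 h1]⟩
      have h1 := ih (v * w) (mul_mem hv hw) (by rw [hcard, Finset.card_erase_of_mem hp, hn]; rfl)
      have h2 : v = v * w * w⁻¹ := by group
      rw [h2]
      exact mul_mem h1 (inv_mem hwD)
  exact fun v hv => key _ v hv rfl

/-- **irreducibility**: an `H`-invariant subgroup containing the full vector contains `V`. -/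
theorem le_of_full {D : Subgroup G} (hD : H ≤ normalizer (D : Set G)) {z : G} (hz : z ∈ V) (hzD : z ∈ D)
    (hE : ∀ p, E M z p = if p.2 = 0 then 0 else 1) : V ≤ D := by
  refine le_of_pairs (M := M) fun v hv p hp hvE => ?_
  obtain ⟨g, hg, hπ⟩ := exists_swap (M := M) (p := (p.1, 0)) (q := p) rfl
  have h1 : g * z * g⁻¹ * z ∈ D := mul_mem ((mem_normalizer_iff.mp (hD hg) z).mp hzD) hzD
  have h2 : v = g * z * g⁻¹ * z := by
    refine inj M hv (mul_mem (hA.conj_mem hg hz) hz) fun r => ?_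
    rw [hvE, E_comm_swap hA hg hπ hz, hE, hE, if_pos rfl, if_neg hp, zero_add, one_mul]
  rw [h2]
  exact h1

/-! ### transitivity on ordered pairs -/

theorem exists_two {p q p' q' : Pt k m} (hpq : p ≠ q) (h1 : p.1 = q.1) (hpq' : p' ≠ q') (h1' : p'.1 = q'.1) :
    ∃ g ∈ H, ∃ π, Mv M g π ∧ π p = p' ∧ π q = q' := by
  obtain ⟨t, ht, π, hπ, hπ1⟩ := trans_sum (M := M) p.1 p'.1
  have e1 : (π p).1 = p'.1 := hπ1 p rfl
  have e2 : (π q).1 = p'.1 := hπ1 q h1.symm
  obtain ⟨g, hg, hρ⟩ := exists_swap (M := M) (p := π p) (q := p') e1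
  have hne : π q ≠ π p := fun h => hpq (π.injective h.symm)
  set q2 := Equiv.swap (π p) p' (π q) with hq2
  have e3 : q2.1 = p'.1 := by
    rw [hq2]
    by_cases h : π q = p'
    · rw [h, Equiv.swap_apply_right, e1]
    · rw [Equiv.swap_apply_of_ne_of_ne hne h, e2]
  have e4 : q2 ≠ p' := by
    intro h
    apply hne
    have h2 : Equiv.swap (π p) p' (π q) = Equiv.swap (π p) p' (π p) := by rw [Equiv.swap_apply_left]; exact h
    exact (Equiv.swap (π p) p').injective h2
  obtain ⟨g', hg', hρ'⟩ := exists_swap (M := M) (p := q2) (q := q') (e3.trans h1')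
  refine ⟨g' * (g * t), mul_mem hg' (mul_mem hg (hA.TH ht)), _,
    hρ'.mul hA (hρ.mul hA hπ (hA.TH ht)) (mul_mem hg (hA.TH ht)), ?_, ?_⟩
  · rw [Equiv.Perm.mul_apply, Equiv.Perm.mul_apply, Equiv.swap_apply_left,
      Equiv.swap_apply_of_ne_of_ne e4.symm hpq']
  · rw [Equiv.Perm.mul_apply, Equiv.Perm.mul_apply, ← hq2, Equiv.swap_apply_left]

theorem mem_cent_of_mv_one {g : G} (hg : g ∈ H) (h : Mv M g 1) : g ∈ centralizer (V : Set G) := by
  rw [mem_centralizer_iff]
  intro v hv
  have h1 : g * v * g⁻¹ = v := by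
    refine inj M (hA.conj_mem hg hv) hv fun p => ?_
    have := h v hv p
    rwa [Equiv.Perm.one_apply] at this
  rw [mul_inv_eq_iff_eq_mul] at h1
  exact h1.symm

omit hA in
theorem mv_one_of_mem_cent {g : G} (h : g ∈ centralizer (V : Set G)) : Mv M g 1 := by
  intro v hv p
  rw [Equiv.Perm.one_apply, ← mem_centralizer_iff.1 h v hv, mul_inv_cancel_right]

omit hA in
/-- a vector vanishing at all nonzero points is trivial -/
theorem eq_one_of_nz {v : G} (hv : v ∈ V) (h : ∀ p : Pt k m, p.2 ≠ 0 → E M v p = 0) : v = 1 := by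
  refine eq_one M hv ?_
  rintro ⟨i, x⟩
  by_cases hx : x = 0
  · subst hx
    have h3 := even M hv i
    rwa [Finset.sum_eq_single (0 : Fin (2 ^ m + 1)) (fun b _ hb => h (i, b) hb)
      (fun h => absurd (Finset.mem_univ _) h)] at h3
  · exact h (i, x) hx

omit hA in
/-- `|V| = 2^(2^m k)` -/
theorem card_V (M : SymK T H V ⊥ k m) : Nat.card V = 2 ^ (2 ^ m * k) := by
  have h1 : Function.Bijective fun (v : V) (i : Fin k) (j : Fin (2 ^ m)) => E M (v : G) (i, j.succ) := by
    constructor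
    · intro v w h
      apply Subtype.ext
      rw [← mul_inv_eq_one]
      refine eq_one_of_nz (M := M) (mul_mem v.2 (inv_mem w.2)) fun p hp => ?_
      obtain ⟨j, hj⟩ := Fin.exists_succ_eq.2 hp
      have h2 := congrFun (congrFun h p.1) j
      have h3 : ((p.1, j.succ) : Pt k m) = p := by rw [hj]
      change E M (v : G) (p.1, j.succ) = E M (w : G) (p.1, j.succ) at h2
      rw [h3] at h2
      rw [E_mul M v.2 (inv_mem w.2), E_inv M w.2, h2, CharTwo.add_self_eq_zero]
    · intro y
      let F : (i : Fin k) → Fin (2 ^ m + 1) → ZMod 2 := fun i => Fin.cons (α := fun _ => ZMod 2) (∑ j, y i j) (y i)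
      obtain ⟨v, hv, h⟩ := exists_E M (fun p : Pt k m => F p.1 p.2) (fun i => by
        rw [Fin.sum_univ_succ]
        change F i 0 + ∑ j : Fin (2 ^ m), F i j.succ = 0
        have h0 : F i 0 = ∑ j, y i j := rfl
        have h1 : ∀ j : Fin (2 ^ m), F i j.succ = y i j := fun j => rfl
        simp_rw [h0, h1]
        exact CharTwo.add_self_eq_zero _)
      refine ⟨⟨v, hv⟩, ?_⟩
      funext i j
      change E M v (i, j.succ) = y i j
      rw [h]
      rfl
  rw [Nat.card_eq_of_bijective _ h1, Nat.card_fun, Nat.card_fun, Nat.card_zmod, Nat.card_fin, Nat.card_fin, ← pow_mul]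

omit hA in
/-- `A` acts as `⟨(p q)⟩` -/
structure Tp (M : SymK T H V ⊥ k m) (A : Subgroup G) (p q : Pt k m) : Prop where
  le : A ≤ H
  ne : p ≠ q
  fst : p.1 = q.1
  all : ∀ a ∈ A, Mv M a 1 ∨ Mv M a (Equiv.swap p q)
  ex : ∃ b ∈ A, Mv M b (Equiv.swap p q)

theorem not_cent_of_swap (hm : 1 ≤ m) {g : G} (hg : g ∈ H) {p q : Pt k m} (hpq : p ≠ q)
    (h : Mv M g (Equiv.swap p q)) : g ∉ centralizer (V : Set G) := by
  intro hc
  have h1 := h.unique hA hm (mv_one_of_mem_cent (M := M) hc) hg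
  have h2 := Equiv.congr_fun h1 p
  rw [Equiv.swap_apply_left, Equiv.Perm.one_apply] at h2
  exact hpq h2.symm

theorem Tp.relIndex (hm : 1 ≤ m) {A : Subgroup G} {p q : Pt k m} (h : Tp M A p q) :
    (centralizer (V : Set G)).relIndex A = 2 := by
  obtain ⟨b, hb, hπ⟩ := h.ex
  have hbc := not_cent_of_swap hA hm (h.le hb) h.ne hπ
  rw [Subgroup.relIndex, Subgroup.index_eq_two_iff]
  refine ⟨⟨b, hb⟩, fun a => ?_⟩
  rw [mem_subgroupOf, mem_subgroupOf]
  rcases h.all a a.2 with h1 | h1
  · have h2 := mem_cent_of_mv_one hA (h.le a.2) h1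
    refine Or.inr ⟨h2, fun h3 => hbc ?_⟩
    have h4 := mul_mem (inv_mem h2) h3
    rw [Subgroup.coe_mul, inv_mul_cancel_left] at h4
    exact h4
  · refine Or.inl ⟨?_, not_cent_of_swap hA hm (h.le a.2) h.ne h1⟩
    refine mem_cent_of_mv_one (M := M) hA (mul_mem (h.le a.2) (h.le hb)) ?_
    have h2 := h1.mul hA hπ (h.le hb)
    rwa [Equiv.swap_mul_self] at h2

/-- in a subgroup containing the adjacent transpositions of a summand -/
theorem adj_gen {N : Subgroup G} (hN : N ≤ H) {i : Fin k}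
    (h : ∀ j : Fin (2 ^ m), ∃ n ∈ N, Mv M n (Equiv.swap (i, j.castSucc) (i, j.succ))) :
    ∀ x y : Fin (2 ^ m + 1), ∃ n ∈ N, Mv M n (Equiv.swap (i, x) (i, y)) := by
  have key : ∀ b : ℕ, ∀ a : ℕ, ∀ (ha : a < 2 ^ m + 1) (hb : b < 2 ^ m + 1), a < b →
      ∃ n ∈ N, Mv M n (Equiv.swap (i, (⟨a, ha⟩ : Fin (2 ^ m + 1))) (i, ⟨b, hb⟩)) := by
    intro b
    induction b with
    | zero => intro a _ _ h; omega
    | succ b ih =>
      intro a ha hb hab
      obtain ⟨n, hn, hπ⟩ := h ⟨b, by omega⟩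
      have e1 : (⟨b, by omega⟩ : Fin (2 ^ m)).castSucc = (⟨b, by omega⟩ : Fin (2 ^ m + 1)) := rfl
      have e2 : (⟨b, by omega⟩ : Fin (2 ^ m)).succ = (⟨b + 1, hb⟩ : Fin (2 ^ m + 1)) := rfl
      rw [e1, e2] at hπ
      rcases Nat.lt_succ_iff_lt_or_eq.1 hab with h1 | h1
      · obtain ⟨n', hn', hπ'⟩ := ih a ha (by omega) h1
        refine ⟨n * n' * n⁻¹, mul_mem (mul_mem hn hn') (inv_mem hn), ?_⟩
        have h2 := hπ.conj hA (hN hn) hπ' (hN hn')
        have h3 : ∀ (π : Equiv.Perm (Pt k m)) (p q : Pt k m), π * Equiv.swap p q * π⁻¹ =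
            Equiv.swap (π p) (π q) := fun π p q => (Equiv.swap_apply_apply π p q).symm
        rw [h3, Equiv.swap_apply_left, Equiv.swap_apply_of_ne_of_ne] at h2
        · exact h2
        · intro h4
          have := congrArg Fin.val (congrArg Prod.snd h4)
          change a = b at this
          omega
        · intro h4
          have := congrArg Fin.val (congrArg Prod.snd h4)
          change a = b + 1 at this
          omega
      · subst h1
        exact ⟨n, hn, hπ⟩
  intro x y
  rcases lt_trichotomy x.val y.val with h1 | h1 | h1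
  · exact key y x x.2 y.2 h1
  · have : x = y := Fin.ext h1
    subst this
    rw [Equiv.swap_self]
    exact ⟨1, one_mem N, Mv_one M⟩
  · rw [Equiv.swap_comm]
    exact key x y y.2 x.2 h1

/-- **the field `gen`** -/
theorem Tp.exists_gen (hm : 1 ≤ m) {A : Subgroup G} {p q : Pt k m} (h : Tp M A p q) :
    ∃ X : Finset G, (∀ x ∈ X, x ∈ H) ∧
    (centralizer (V : Set G)).relIndex A ^ X.card ≤ Nat.card V ∧
    V ⊓ (⨅ x ∈ X, centralizer ((cj x A : Subgroup G) : Set G)) = ⊥ ∧
    ∀ g ∈ H, cj g A ≤ (⨆ x ∈ X, cj x A) ⊔ (H ⊓ centralizer (V : Set G)) := by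
  have hex : ∀ ij : Fin k × Fin (2 ^ m), ∃ g ∈ H, ∃ π, Mv M g π ∧ π p = (ij.1, ij.2.castSucc) ∧
      π q = (ij.1, ij.2.succ) := fun ij => exists_two hA h.ne h.fst
        (fun h1 => by
          have := congrArg Fin.val (congrArg Prod.snd h1)
          simp at this) rfl
  choose g hg π hπ hp hq using hex
  obtain ⟨b, hb, hbs⟩ := h.ex
  have hbH := h.le hb
  have hconj : ∀ ij, Mv M (g ij * b * (g ij)⁻¹) (Equiv.swap (ij.1, ij.2.castSucc) (ij.1, ij.2.succ)) := by
    intro ij
    have h2 := (hπ ij).conj hA (hg ij) hbs hbH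
    have h3 : π ij * Equiv.swap p q * (π ij)⁻¹ = Equiv.swap (π ij p) (π ij q) := (Equiv.swap_apply_apply _ p q).symm
    rwa [h3, hp, hq] at h2
  let X : Finset G := Finset.univ.image g
  have hX : ∀ x ∈ X, x ∈ H := by
    intro x hx
    obtain ⟨ij, -, rfl⟩ := Finset.mem_image.1 hx
    exact hg ij
  have hgX : ∀ ij, g ij ∈ X := fun ij => Finset.mem_image_of_mem _ (Finset.mem_univ _)
  refine ⟨X, hX, ?_, ?_, ?_⟩
  · rw [h.relIndex hA hm, card_V M]
    refine Nat.pow_le_pow_right (by norm_num) ?_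
    refine Finset.card_image_le.trans ?_
    rw [Finset.card_univ, Fintype.card_prod, Fintype.card_fin, Fintype.card_fin, mul_comm]
  · rw [eq_bot_iff]
    intro v hv
    obtain ⟨hvV, hvc⟩ := mem_inf.1 hv
    rw [mem_bot]
    have h1 : ∀ (i : Fin k) (j : Fin (2 ^ m)), E M v (i, j.castSucc) = E M v (i, j.succ) := by
      intro i j
      have h2 : v ∈ centralizer ((cj (g (i, j)) A : Subgroup G) : Set G) := by
        have h3 := (mem_iInf.1 hvc (g (i, j)))
        exact (mem_iInf.1 h3 (hgX (i, j)))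
      have h3 : g (i, j) * b * (g (i, j))⁻¹ ∈ cj (g (i, j)) A := by
        rw [mem_cj]
        have : (g (i, j))⁻¹ * (g (i, j) * b * (g (i, j))⁻¹) * g (i, j) = b := by group
        rw [this]
        exact hb
      have h4 := mem_centralizer_iff.1 h2 _ h3
      have h5 : g (i, j) * b * (g (i, j))⁻¹ * v * (g (i, j) * b * (g (i, j))⁻¹)⁻¹ = v := by
        rw [h4, mul_inv_cancel_right]
      have h6 := hconj (i, j) v hvV (i, j.castSucc)
      rw [h5, Equiv.swap_apply_left] at h6
      exact h6.symm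
    have h2 : ∀ (i : Fin k) (x : Fin (2 ^ m + 1)), E M v (i, x) = E M v (i, 0) := by
      intro i x
      induction x using Fin.induction with
      | zero => rfl
      | succ j ih => rw [← h1 i j, ih]
    refine eq_one M hvV ?_
    rintro ⟨i, x⟩
    rw [h2]
    have h3 := even M hvV i
    simp_rw [h2 i] at h3
    rw [Finset.sum_const, Finset.card_univ, Fintype.card_fin, nsmul_eq_mul] at h3
    have h4 : ((2 ^ m + 1 : ℕ) : ZMod 2) = 1 := by
      push_cast
      have : (2 : ZMod 2) = 0 := rfl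
      rw [this, zero_pow (by omega), zero_add]
    rwa [h4, one_mul] at h3
  · intro x hx y hy
    let N : Subgroup G := ⨆ x ∈ X, cj x A
    have hN : N ≤ H := by
      refine iSup₂_le fun x hx => ?_
      intro a ha
      rw [mem_cj] at ha
      have h2 : a = x * (x⁻¹ * a * x) * x⁻¹ := by group
      rw [h2]
      exact mul_mem (mul_mem (hX x hx) (h.le ha)) (inv_mem (hX x hx))
    have hle : ∀ x ∈ X, cj x A ≤ N := fun x hx => le_iSup₂_of_le x hx le_rfl
    rw [mem_cj] at hy
    have hy' : y = x * (x⁻¹ * y * x) * x⁻¹ := by group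
    have hyH : y ∈ H := by
      rw [hy']
      exact mul_mem (mul_mem hx (h.le hy)) (inv_mem hx)
    obtain ⟨ρ, hρ, hρ1⟩ := exists_mv (M := M) hx
    have hact : Mv M y 1 ∨ Mv M y (Equiv.swap (ρ p) (ρ q)) := by
      rcases h.all _ hy with h2 | h2
      · left
        have h3 := hρ.conj hA hx h2 (h.le hy)
        rw [← hy', mul_one, mul_inv_cancel] at h3
        exact h3
      · right
        have h3 := hρ.conj hA hx h2 (h.le hy)
        have h4 : ρ * Equiv.swap p q * ρ⁻¹ = Equiv.swap (ρ p) (ρ q) := (Equiv.swap_apply_apply _ p q).symm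
        rwa [← hy', h4] at h3
    rcases hact with h2 | h2
    · exact mem_sup_right (mem_inf.2 ⟨hyH, mem_cent_of_mv_one hA hyH h2⟩)
    · have e1 : (ρ p).1 = (ρ q).1 := hρ1 p q h.fst
      obtain ⟨n, hn, hnm⟩ := adj_gen hA hN (i := (ρ p).1) (fun j => ⟨_, hle _ (hgX ((ρ p).1, j)) (by
        rw [mem_cj]
        have : (g ((ρ p).1, j))⁻¹ * (g ((ρ p).1, j) * b * (g ((ρ p).1, j))⁻¹) * g ((ρ p).1, j) = b := by group
        rw [this]
        exact hb), hconj ((ρ p).1, j)⟩) (ρ p).2 (ρ q).2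
      have e2 : (((ρ p).1, (ρ q).2) : Pt k m) = ρ q := Prod.ext e1 rfl
      rw [e2] at hnm
      have h3 : Mv M (n⁻¹ * y) 1 := by
        have h4 := (hnm.inv hA (hN hn)).mul hA h2 hyH
        have h5 : (Equiv.swap (((ρ p).1, (ρ p).2) : Pt k m) (ρ q))⁻¹ * Equiv.swap (ρ p) (ρ q) = 1 :=
          inv_mul_cancel _
        rwa [h5] at h4
      have h4 : y = n * (n⁻¹ * y) := by group
      rw [h4]
      exact mul_mem (mem_sup_left hn) (mem_sup_right (mem_inf.2
        ⟨mul_mem (inv_mem (hN hn)) hyH, mem_cent_of_mv_one hA (mul_mem (inv_mem (hN hn)) hyH) h3⟩))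

end

end Cfsg.Agent.Omega.NOThreeL.NF.SymG
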