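import Cfsg.Agent.Omega.NOThreeL.NF.SymGen

/-!
# THEOREM NF (#17343), even-subset modules: matchings

`μ i` : a matching of the nonzero points of the `i`-th summand (`Mt μ`).

* `toR` : every `v ∈ V` is `H`-conjugate to a `μ`-invariant vector vanishing at the zero points;
* `mem_of_pairs` : such a vector is a product of pairs `{x, μ x}`.
-/

set_option autoImplicit false

namespace Cfsg.Agent.Omega.NOThreeL.NF.SymG

open Subgroup Cfsg Cfsg.Agent.ZN Cfsg.Agent.Omega.FFThm Cfsg.Agent.Omega.MinPar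
open Cfsg.Agent.ZN.ChoiceBase hiding mem_zc
open Cfsg.Agent.Omega.Half (Amb)
open Cfsg.Agent.Omega.Half.SymA
open scoped Classical

universe u

variable {G : Type u} [Group G] {T H V : Subgroup G} {k m : ℕ}

/-- a matching of the nonzero points -/
structure Mt {k m : ℕ} (μ : Pt k m → Pt k m) : Prop where
  fst : ∀ p, (μ p).1 = p.1
  nz : ∀ p, p.2 ≠ 0 → (μ p).2 ≠ 0
  ne : ∀ p, p.2 ≠ 0 → μ p ≠ p
  inv : ∀ p, p.2 ≠ 0 → μ (μ p) = p

theorem Mt.exists_set {μ : Pt k m → Pt k m} (h : Mt μ) (i : Fin k) : ∀ n : ℕ, 2 * n ≤ 2 ^ m →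
    ∃ U : Finset (Fin (2 ^ m + 1)), U.card = 2 * n ∧ 0 ∉ U ∧ ∀ x ∈ U, (μ (i, x)).2 ∈ U := by
  intro n
  induction n with
  | zero => exact fun _ => ⟨∅, rfl, Finset.notMem_empty _, fun x hx => absurd hx (Finset.notMem_empty _)⟩
  | succ n ih =>
    intro hn
    obtain ⟨U, hU, h0, hinv⟩ := ih (by omega)
    obtain ⟨x, hx⟩ : ∃ x, x ∉ insert (0 : Fin (2 ^ m + 1)) U := by
      by_contra hcon
      push Not at hcon
      have h1 : (Finset.univ : Finset (Fin (2 ^ m + 1))).card ≤ (insert (0 : Fin (2 ^ m + 1)) U).card :=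
        Finset.card_le_card fun x _ => hcon x
      rw [Finset.card_insert_of_notMem h0, hU, Finset.card_univ, Fintype.card_fin] at h1
      omega
    rw [Finset.mem_insert, not_or] at hx
    obtain ⟨hx0, hxU⟩ := hx
    have e1 : ((i, (μ (i, x)).2) : Pt k m) = μ (i, x) := Prod.ext (h.fst (i, x)).symm rfl
    have h2 : (μ (i, x)).2 ≠ x := fun h3 => h.ne (i, x) hx0 (by rw [← e1, h3])
    have h3 : (μ (i, (μ (i, x)).2)).2 = x := by rw [e1, h.inv (i, x) hx0]
    have h4 : (μ (i, x)).2 ∉ U := fun h5 => hxU (by rw [← h3]; exact hinv _ h5)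
    refine ⟨insert x (insert (μ (i, x)).2 U), ?_, ?_, ?_⟩
    · rw [Finset.card_insert_of_notMem, Finset.card_insert_of_notMem h4, hU]
      · ring
      · rw [Finset.mem_insert, not_or]
        exact ⟨h2.symm, hxU⟩
    · rw [Finset.mem_insert, Finset.mem_insert, not_or, not_or]
      exact ⟨fun h5 => hx0 h5.symm, fun h5 => h.nz (i, x) hx0 h5.symm, h0⟩
    · intro y hy
      rw [Finset.mem_insert, Finset.mem_insert] at hy
      rw [Finset.mem_insert, Finset.mem_insert]
      rcases hy with rfl | rfl | hy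
      · exact Or.inr (Or.inl rfl)
      · exact Or.inl h3
      · exact Or.inr (Or.inr (hinv y hy))

/-- two subsets of the same size are conjugate under the symmetric group -/
theorem exists_perm {α : Type*} [Fintype α] (s t : Finset α) (h : s.card = t.card) :
    ∃ σ : Equiv.Perm α, ∀ x, σ x ∈ t ↔ x ∈ s := by
  let e : {x // x ∈ s} ≃ {x // x ∈ t} := Finset.equivOfCardEq h
  refine ⟨e.extendSubtype, fun x => ⟨fun hx => ?_, fun hx => e.extendSubtype_mem x hx⟩⟩
  by_contra hxs
  exact e.extendSubtype_not_mem x hxs hx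

theorem toR (M : SymK T H V ⊥ k m) (hm : 1 ≤ m) {μ : Pt k m → Pt k m} (hμ : Mt μ) {v : G} (hv : v ∈ V) :
    ∃ g ∈ H, (∀ i, E M (g * v * g⁻¹) (i, 0) = 0) ∧
      ∀ p : Pt k m, p.2 ≠ 0 → E M (g * v * g⁻¹) (μ p) = E M (g * v * g⁻¹) p := by
  let s : Fin k → Finset (Fin (2 ^ m + 1)) := fun i => Finset.univ.filter fun x => E M v (i, x) ≠ 0
  have hs : ∀ i, ∃ n, (s i).card = 2 * n ∧ 2 * n ≤ 2 ^ m := by
    intro i
    have h1 := even M hv i
    have h2 : ∑ x, E M v (i, x) = (((s i).card : ℕ) : ZMod 2) := by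
      rw [Finset.card_eq_sum_ones, Nat.cast_sum, Finset.sum_filter]
      refine Finset.sum_congr rfl fun x _ => ?_
      by_cases hx : E M v (i, x) = 0
      · rw [if_neg (not_not.2 hx), hx]
      · rw [if_pos hx, zmod2_ne.1 hx, Nat.cast_one]
    rw [h2, ZMod.natCast_eq_zero_iff] at h1
    obtain ⟨n, hn⟩ := h1
    refine ⟨n, hn, ?_⟩
    have h3 : (s i).card ≤ 2 ^ m + 1 := (Finset.card_le_univ _).trans (by rw [Fintype.card_fin])
    obtain ⟨c, hc⟩ : 2 ∣ 2 ^ m := dvd_pow_self 2 (by omega)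
    omega
  have hτ : ∀ i, ∃ τ : Equiv.Perm (Fin (2 ^ m + 1)), ∃ U : Finset (Fin (2 ^ m + 1)), 0 ∉ U ∧
      (∀ x ∈ U, (μ (i, x)).2 ∈ U) ∧ ∀ x, τ x ∈ U ↔ x ∈ s i := by
    intro i
    obtain ⟨n, hn, hle⟩ := hs i
    obtain ⟨U, hU, h0, h1⟩ := hμ.exists_set i n hle
    obtain ⟨τ, hτ⟩ := exists_perm (s i) U (by rw [hn, hU])
    exact ⟨τ, U, h0, h1, hτ⟩
  choose τ U h0 hinv hτ using hτ
  obtain ⟨g, hg, hact, -⟩ := M.lift τ
  have hE : ∀ i x, E M (g * v * g⁻¹) (i, x) ≠ 0 ↔ x ∈ U i := by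
    intro i x
    have h1 := hact v hv i ((τ i).symm x)
    rw [Equiv.apply_symm_apply] at h1
    change E M (g * v * g⁻¹) (i, x) = E M v (i, (τ i).symm x) at h1
    rw [h1]
    have h2 := hτ i ((τ i).symm x)
    rw [Equiv.apply_symm_apply] at h2
    rw [h2, Finset.mem_filter]
    exact ⟨fun h => ⟨Finset.mem_univ _, h⟩, fun h => h.2⟩
  refine ⟨g, hg, fun i => ?_, fun p hp => ?_⟩
  · by_contra h
    exact h0 i ((hE i 0).1 h)
  · have key : ∀ p : Pt k m, E M (g * v * g⁻¹) p ≠ 0 → E M (g * v * g⁻¹) (μ p) ≠ 0 := by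
      rintro ⟨i, x⟩ h
      have h1 := hinv i x ((hE i x).1 h)
      have e1 : ((i, (μ (i, x)).2) : Pt k m) = μ (i, x) := Prod.ext (hμ.fst (i, x)).symm rfl
      rw [← e1]
      exact (hE _ _).2 h1
    by_cases h1 : E M (g * v * g⁻¹) p = 0
    · rw [h1]
      by_contra h2
      have h3 := key _ h2
      rw [hμ.inv p hp] at h3
      exact h3 h1
    · rw [zmod2_ne.1 h1, zmod2_ne.1 (key p h1)]

theorem mem_of_pairs (M : SymK T H V ⊥ k m) {μ : Pt k m → Pt k m} (hμ : Mt μ) {D : Subgroup G}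
    (h : ∀ p : Pt k m, p.2 ≠ 0 → ∀ r ∈ V, (∀ q, E M r q = pr p (μ p) q) → r ∈ D) {v : G} (hv : v ∈ V)
    (h0 : ∀ i, E M v (i, 0) = 0) (hinv : ∀ p : Pt k m, p.2 ≠ 0 → E M v (μ p) = E M v p) : v ∈ D := by
  have key : ∀ n : ℕ, ∀ v ∈ V, (∀ i, E M v (i, 0) = 0) → (∀ p : Pt k m, p.2 ≠ 0 → E M v (μ p) = E M v p) →
      (Finset.univ.filter fun p : Pt k m => E M v p ≠ 0).card ≤ n → v ∈ D := by
    intro n
    induction n with
    | zero =>
      intro v hv _ _ hn
      have h1 : v = 1 := by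
        refine eq_one M hv fun p => ?_
        by_contra h3
        have h4 : p ∈ (Finset.univ.filter fun p : Pt k m => E M v p ≠ 0) :=
          Finset.mem_filter.2 ⟨Finset.mem_univ _, h3⟩
        rw [Finset.card_eq_zero.1 (Nat.le_zero.1 hn)] at h4
        exact absurd h4 (Finset.notMem_empty _)
      rw [h1]
      exact one_mem D
    | succ n ih =>
      intro v hv h0 hinv hn
      by_cases hne : (Finset.univ.filter fun p : Pt k m => E M v p ≠ 0).Nonempty
      swap
      · rw [Finset.not_nonempty_iff_eq_empty] at hne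
        exact ih v hv h0 hinv (by rw [hne]; exact Nat.zero_le _)
      obtain ⟨p, hp⟩ := hne
      obtain ⟨-, hpv⟩ := Finset.mem_filter.1 hp
      have hp0 : p.2 ≠ 0 := by
        intro h1
        apply hpv
        have : p = (p.1, 0) := Prod.ext rfl h1
        rw [this, h0]
      obtain ⟨w, hw, hwE⟩ := exists_pair M (p := p) (q := μ p) (hμ.fst p).symm
      have hwD : w ∈ D := h p hp0 w hw hwE
      have hμp := hμ.ne p hp0
      have hw1 : ∀ q, q ≠ p → q ≠ μ p → E M w q = 0 := fun q h1 h2 => by rw [hwE, if_neg h1, if_neg h2, add_zero]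
      have hwp : E M w p = 1 := by rw [hwE, if_pos rfl, if_neg hμp.symm, add_zero]
      have hwq : E M w (μ p) = 1 := by rw [hwE, if_neg hμp, if_pos rfl, zero_add]
      have h1 := ih (v * w) (mul_mem hv hw) (fun i => by
        rw [E_mul M hv hw, h0, hw1, add_zero]
        · intro h2
          exact hp0 (congrArg Prod.snd h2).symm
        · intro h2
          exact hμ.nz p hp0 (congrArg Prod.snd h2).symm) (fun q hq => by
        rw [E_mul M hv hw, E_mul M hv hw, hinv q hq]
        congr 1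
        by_cases h2 : q = p
        · rw [h2, hwp, hwq]
        · by_cases h3 : q = μ p
          · rw [h3, hμ.inv p hp0, hwp, hwq]
          · rw [hw1 q h2 h3, hw1]
            · intro h4
              apply h3
              rw [← h4, hμ.inv q hq]
            · intro h4
              apply h2
              rw [← hμ.inv q hq, h4, hμ.inv p hp0]) (by
        have h2 : (Finset.univ.filter fun r : Pt k m => E M (v * w) r ≠ 0) ⊆
            (Finset.univ.filter fun r : Pt k m => E M v r ≠ 0).erase p := by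
          intro r hr
          have hr' := (Finset.mem_filter.1 hr).2
          rw [E_mul M hv hw] at hr'
          have h3 : r ≠ p := by
            rintro rfl
            apply hr'
            rw [zmod2_ne.1 hpv, hwp, CharTwo.add_self_eq_zero]
          refine Finset.mem_erase.2 ⟨h3, Finset.mem_filter.2 ⟨Finset.mem_univ _, fun h4 => hr' ?_⟩⟩
          have h5 : r ≠ μ p := by
            rintro rfl
            rw [hinv p hp0] at h4
            exact hpv h4
          rw [h4, hw1 r h3 h5, add_zero]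
        have h3 := Finset.card_le_card h2
        rw [Finset.card_erase_of_mem hp] at h3
        omega)
      have h2 : v = v * w * w⁻¹ := by group
      rw [h2]
      exact mul_mem h1 (inv_mem hwD)
  exact key _ v hv h0 hinv le_rfl

end Cfsg.Agent.Omega.NOThreeL.NF.SymG
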