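import Cfsg.Agent.Omega.NOThreeL.NF.Sym
import Cfsg.Agent.Omega.NOThreeL.NF.SymTo

/-!
# THEOREM NF (#17343), even-subset modules: the fields `gen`, `toR`, `irr` of `RP`

`h : AD M A p q`. 
-/

set_option autoImplicit false

namespace Cfsg.Agent.Omega.NOThreeL.NF.SymRP

open Subgroup Cfsg Cfsg.Agent.ZN Cfsg.Agent.ZN.ChoiceBase
open Cfsg.Agent.Omega.FFThm (ElemM OffM NoOverM ConclM SymK SymKM ActsSym)
open Cfsg.Agent.Omega.Half (Amb)
open Cfsg.Agent.Omega.Half.SymA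
open Cfsg.Agent.Omega.NOThreeL.NF.SymG (Tp Mt mv_one_of_mem_cent le_of_full)
open scoped Classical commutatorElement

universe u

variable {G : Type u} [Group G] [Finite G] {S : Sylow 2 G} {P V : Subgroup G} {k m : ℕ}
  {M : SymK (S : Subgroup G) P V ⊥ k m} (hA : Amb (S : Subgroup G) P V)
  {A : Subgroup G} {p q : Pt k m}
include hA

omit [Finite G] in
theorem AD.tp (h : AD M A p q) : Tp M A p q where
  le := h.le.trans hA.TH
  ne := h.sw.1
  fst := h.sw.2.1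
  all a ha := (h.all a ha).imp (fun h1 => mv_one_of_mem_cent h1) id
  ex := h.ex

omit [Finite G] in
/-- field `gen` of `RP` -/
theorem AD.gen (hm : 1 ≤ m) (h : AD M A p q) : ∃ X : Finset G, (∀ x ∈ X, x ∈ P) ∧
    (centralizer (V : Set G)).relIndex A ^ X.card ≤ Nat.card V ∧
    V ⊓ (⨅ x ∈ X, centralizer ((cj x A : Subgroup G) : Set G)) = ⊥ ∧
    ∀ g ∈ P, cj g A ≤ (⨆ x ∈ X, cj x A) ⊔ (P ⊓ centralizer (V : Set G)) :=
  (h.tp hA).exists_gen hA hm

/-- field `irr` of `RP` -/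
theorem irr (M : SymK (S : Subgroup G) P V ⊥ k m) (hm : 1 ≤ m) {z : G} (hz : z ∈ zc (S : Subgroup G)) (hz1 : z ≠ 1)
    {D : Subgroup G} (hD : P ≤ normalizer (D : Set G)) (hzD : z ∈ D) : V ≤ D :=
  le_of_full hA hD (hA.zc hz) hzD (E_zc (M := M) hA hm hz hz1)

/-- field `toR` of `RP` -/
theorem AD.toR (hm : 1 ≤ m) (h : AD M A p q) {v : G} (hv : v ∈ V) :
    ∃ g ∈ P, g * v * g⁻¹ ∈ sSup (pts V (S : Subgroup G) A) := by
  let μ : Pt k m → Pt k m := fun a => if ha : ∃ b, Sw M a b then ha.choose else a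
  have hμ : ∀ a b, Sw M a b → μ a = b := by
    intro a b hab
    have ha : ∃ b, Sw M a b := ⟨b, hab⟩
    have h1 : μ a = ha.choose := dif_pos ha
    rw [h1]
    exact ha.choose_spec.uniq hA S.isPGroup' hm hab
  have hex : ∀ a : Pt k m, a.2 ≠ 0 → Sw M a (μ a) := by
    intro a ha
    obtain ⟨b, hb⟩ := exists_sw hA hm h.sw ha
    rwa [hμ a b hb]
  have hMt : Mt μ := by
    refine ⟨fun a => ?_, fun a ha => ((hex a ha).symm).nz hA hm, fun a ha => (hex a ha).1.symm,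
      fun a ha => hμ _ _ (hex a ha).symm⟩
    by_cases ha : ∃ b, Sw M a b
    · obtain ⟨b, hb⟩ := ha
      rw [hμ a b hb]
      exact hb.2.1.symm
    · have h1 : μ a = a := dif_neg ha
      rw [h1]
  obtain ⟨g, hg, h1, h2⟩ := SymG.toR M hm hMt hv
  refine ⟨g, hg, (h.mem_R hA hm).2 ⟨hA.conj_mem hg hv, fun a b hab => ?_, ?_⟩⟩
  · rw [← h2 a (hab.nz hA hm), hμ a b hab]
  · rintro ⟨i, x⟩ hx
    change x = 0 at hx
    rw [hx]
    exact h1 i

end Cfsg.Agent.Omega.NOThreeL.NF.SymRP
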